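import Groth.Prelude
import Groth.Agent.DevissExLib.LocalOpenFree
import Groth.Agent.FlatInjLib.ProjUniv
import Groth.Agent.HenselLib.Criteria
import Mathlib

/-!
# Flat modules essentially of finite type over henselian local rings are Mittag-Leffler
-/

set_option autoImplicit false
set_option linter.all false

universe u

open scoped TensorProduct

namespace PureCritLib

/-- A localisation of a Mittag-Leffler module at universally injective elements is Mittag-Leffler. -/
theorem isMittagLeffler_localized {A B M L : Type u} [CommRing A] [CommRing B] [Algebra A B] [AddCommGroup M]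
    [Module B M] [Module A M] [IsScalarTower A B M] [AddCommGroup L] [Module B L] [Module A L] [IsScalarTower A B L]
    (T : Submonoid B) (l : M →ₗ[B] L) [IsLocalizedModule T l] (hM : CAlg.IsMittagLeffler A M)
    (hT : ∀ s ∈ T, FlatCA.UnivInj A ((LinearMap.lsmul B M s).restrictScalars A)) :
    CAlg.IsMittagLeffler A L := by
  intro ι Q _ _
  rw [← LinearMap.ker_eq_bot, LinearMap.ker_eq_bot']
  intro z hz
  replace hz : ∀ i, DevissExLib.piRightHomAt (B := B) L Q i z = 0 := fun i => by
    rw [DevissExLib.piRightHomAt_apply]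
    exact congrFun hz i
  let ℓ := fun (W : Type u) [AddCommGroup W] [Module A W] => TensorProduct.AlgebraTensorModule.rTensor A W l
  obtain ⟨⟨y, s⟩, hys⟩ := IsLocalizedModule.surj T (ℓ (∀ i, Q i)) z
  have hy : y = 0 := by
    apply hM ι Q
    rw [map_zero]
    funext i
    rw [← DevissExLib.piRightHomAt_apply (B := B), Pi.zero_apply]
    have h0 : ∀ w : M ⊗[A] (∀ i, Q i), ℓ (Q i) (DevissExLib.piRightHomAt (B := B) M Q i w) =
        DevissExLib.piRightHomAt (B := B) L Q i (ℓ _ w) := fun w => by
      induction w using TensorProduct.induction_on with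
      | zero => simp
      | tmul m x => simp [ℓ, DevissExLib.piRightHomAt]
      | add x y hx hy => simp only [map_add, hx, hy]
    have h1 : ℓ (Q i) (DevissExLib.piRightHomAt (B := B) M Q i y) = 0 := by
      rw [h0, ← show (s : B) • z = ℓ _ y from hys]
      show DevissExLib.piRightHomAt (B := B) L Q i ((s : B) • z) = 0
      rw [map_smul, hz i, smul_zero]
    obtain ⟨c, hc⟩ := (IsLocalizedModule.eq_zero_iff T (ℓ (Q i))).1 h1
    refine (LinearMap.lTensor_inj_iff_rTensor_inj (Q i) _).1 (hT c c.2 (Q i)) ?_
    have hb : ∀ w : M ⊗[A] Q i, ((LinearMap.lsmul B M (c : B)).restrictScalars A).rTensor (Q i) w = (c : B) • w :=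
      fun w => by
        induction w using TensorProduct.induction_on with
        | zero => simp
        | tmul m x => rw [LinearMap.rTensor_tmul, TensorProduct.smul_tmul']; rfl
        | add x y hx hy => rw [map_add, hx, hy, smul_add]
    rw [hb, map_zero]
    exact hc
  rw [hy, map_zero] at hys
  exact ((Module.End.isUnit_iff _).1 (IsLocalizedModule.map_units (ℓ (∀ i, Q i)) s)).1
    ((show (s : B) • z = 0 from hys).trans (map_zero _).symm)

/-- The condition of regularity modulo an ideal of the base passes to localisations. -/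
theorem reg_localized {A B N M : Type u} [CommRing A] [CommRing B] [Algebra A B] [AddCommGroup N] [Module B N]
    [Module A N] [IsScalarTower A B N] [AddCommGroup M] [Module B M] [Module A M] [IsScalarTower A B M]
    (T : Submonoid B) (l : N →ₗ[B] M) [IsLocalizedModule T l] (I : Ideal A) (s : B)
    (h : ∀ x : N, s • x ∈ I • (⊤ : Submodule A N) → ∃ c ∈ T, c • x ∈ I • (⊤ : Submodule A N)) :
    ∀ y : M, s • y ∈ I • (⊤ : Submodule A M) → y ∈ I • (⊤ : Submodule A M) := by
  have hN : ∀ (b : B) (x : N), x ∈ I • (⊤ : Submodule A N) → b • x ∈ I • (⊤ : Submodule A N) := fun b x hx =>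
    Submodule.smul_induction_on hx (fun a ha m _ => by rw [smul_comm]; exact Submodule.smul_mem_smul ha trivial)
      fun y z hy hz => by rw [smul_add]; exact add_mem hy hz
  have hM : ∀ (b : B) (x : M), x ∈ I • (⊤ : Submodule A M) → b • x ∈ I • (⊤ : Submodule A M) := fun b x hx =>
    Submodule.smul_induction_on hx (fun a ha m _ => by rw [smul_comm]; exact Submodule.smul_mem_smul ha trivial)
      fun y z hy hz => by rw [smul_add]; exact add_mem hy hz
  have hback : ∀ y ∈ I • (⊤ : Submodule A M), ∃ c : T, ∃ x ∈ I • (⊤ : Submodule A N), (c : B) • y = l x := by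
    intro y hy
    refine Submodule.smul_induction_on hy (fun a ha m _ => ?_) fun y z hy hz => ?_
    · obtain ⟨⟨x, c⟩, hc⟩ := IsLocalizedModule.surj T l m
      refine ⟨c, a • x, Submodule.smul_mem_smul ha trivial, ?_⟩
      rw [smul_comm, show (c : B) • m = l x from hc, LinearMap.map_smul_of_tower]
    · obtain ⟨c, x, hx, hcx⟩ := hy
      obtain ⟨d, w, hw, hdw⟩ := hz
      refine ⟨c * d, (d : B) • x + (c : B) • w, add_mem (hN _ _ hx) (hN _ _ hw), ?_⟩
      rw [map_add, map_smul, map_smul, ← hcx, ← hdw, smul_add, Submonoid.coe_mul]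
      simp only [smul_smul, mul_comm]
  have hl : ∀ x ∈ I • (⊤ : Submodule A N), l x ∈ I • (⊤ : Submodule A M) := fun x hx =>
    Submodule.smul_induction_on hx
      (fun a ha m _ => by rw [LinearMap.map_smul_of_tower]; exact Submodule.smul_mem_smul ha trivial)
      fun y z hy hz => by rw [map_add]; exact add_mem hy hz
  have hdiv : ∀ (c : T) (y : M), (c : B) • y ∈ I • (⊤ : Submodule A M) → y ∈ I • (⊤ : Submodule A M) := by
    intro c y hy
    obtain ⟨d, x, hx, hdx⟩ := hback _ hy
    let e := d * c
    have he : (e : B) • y = l x := by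
      show ((d : B) * (c : B)) • y = l x
      rw [mul_smul, hdx]
    have hy' : y = IsLocalizedModule.mk' l x e := ((IsLocalizedModule.mk'_eq_iff).2 he.symm).symm
    rw [hy']
    refine Submodule.smul_induction_on hx (fun a ha m _ => ?_) fun y z hy hz => ?_
    · have : IsLocalizedModule.mk' l (a • m) e = a • IsLocalizedModule.mk' l m e := by
        rw [IsLocalizedModule.mk'_eq_iff, Submonoid.smul_def, smul_comm, LinearMap.map_smul_of_tower,
          ← Submonoid.smul_def, IsLocalizedModule.mk'_cancel']
      rw [this]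
      exact Submodule.smul_mem_smul ha trivial
    · rw [IsLocalizedModule.mk'_add]
      exact add_mem hy hz
  intro y hy
  obtain ⟨⟨x, c⟩, hc⟩ := IsLocalizedModule.surj T l y
  obtain ⟨d, w, hw, hdw⟩ := hback _ (hM (c : B) _ hy)
  have h1 : l ((d : B) • s • x) = l w := by
    rw [map_smul, map_smul, ← show (c : B) • y = l x from hc, ← hdw, smul_comm s (c : B)]
  obtain ⟨e, he⟩ := (IsLocalizedModule.eq_iff_exists T l).1 h1
  have h2 : s • ((e : B) * (d : B)) • x ∈ I • (⊤ : Submodule A N) := by
    rw [smul_comm, mul_smul]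
    exact he ▸ hN (e : B) w hw
  obtain ⟨c', hc', hc'x⟩ := h _ h2
  refine hdiv c y ?_
  rw [show (c : B) • y = l x from hc]
  refine hdiv (⟨c', hc'⟩ * (e * d)) (l x) ?_
  rw [← map_smul]
  refine hl _ ?_
  show (c' * ((e : B) * (d : B))) • x ∈ _
  rw [mul_smul]
  exact hc'x

/-- An element outside a prime past which all bad zero divisors of the closed fibre are killed. -/
theorem exists_avoiding {A S : Type u} [CommRing A] [IsLocalRing A] [CommRing S] [Algebra A S] [Algebra.FiniteType A S]
    (N : Type u) [AddCommGroup N] [Module S N] [Module A N] [IsScalarTower A S N] [Module.Finite S N]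
    (q : Ideal S) [q.IsPrime] :
    ∃ h : S, h ∉ q ∧ ∀ s ∉ q, ∀ x : N, s • x ∈ IsLocalRing.maximalIdeal A • (⊤ : Submodule A N) →
      ∃ n : ℕ, h ^ n • x ∈ IsLocalRing.maximalIdeal A • (⊤ : Submodule A N) := by
  classical
  let m := IsLocalRing.maximalIdeal A
  haveI : IsNoetherianRing (m.Fiber S) := Algebra.FiniteType.isNoetherianRing m.ResidueField _
  letI : Algebra S (m.Fiber S) := Algebra.TensorProduct.rightAlgebra
  let W := FlatCA.fiberMod m S N
  haveI : Module.Finite (m.Fiber S) W := inferInstanceAs (Module.Finite (m.Fiber S) ((m.Fiber S) ⊗[S] N))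
  let bad := (associatedPrimes.finite (m.Fiber S) W).toFinset.filter fun P => ¬ P.comap (FibAssLib.incl S m) ≤ q
  have hbad : ∀ P ∈ bad, ∃ b : S, FibAssLib.incl S m b ∈ P ∧ b ∉ q := fun P hP => by
    obtain ⟨b, hb, hbq⟩ := SetLike.not_le_iff_exists.1 (Finset.mem_filter.1 hP).2
    exact ⟨b, hb, hbq⟩
  choose b hb hbq using hbad
  refine ⟨∏ P ∈ bad.attach, b P.1 P.2, fun hm => ?_, fun s hs x hx => ?_⟩
  · obtain ⟨P, -, hP⟩ := (Ideal.IsPrime.prod_mem_iff).1 hm
    exact hbq P.1 P.2 hP
  · let h := ∏ P ∈ bad.attach, b P.1 P.2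
    let z : W := FlatCA.toFiberMod m S N x
    have hsz : FibAssLib.incl S m s • z = 0 := by
      rw [← FibAssLib.smul_eq m s z, ← map_smul]
      exact (FlatInjLib.toFiberMod_eq_zero_iff (S := S) (s • x)).2 hx
    have hrad : FibAssLib.incl S m h ∈ ((⊥ : Submodule (m.Fiber S) W).colon {z}).radical := by
      rw [← Ideal.sInf_minimalPrimes, Submodule.mem_sInf]
      intro (P : Ideal (m.Fiber S)) hPmin
      obtain ⟨y, hy⟩ := Submodule.exists_eq_colon_of_mem_minimalPrimes hPmin
      haveI : P.IsPrime := hPmin.1.1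
      have hass : P ∈ associatedPrimes (m.Fiber S) W := isAssociatedPrime_iff.2 ⟨inferInstance, y, hy⟩
      have hsP : s ∈ P.comap (FibAssLib.incl S m) :=
        hPmin.1.2 (Submodule.mem_colon_singleton.2 (by rw [Submodule.mem_bot]; exact hsz))
      have hPbad : P ∈ bad := Finset.mem_filter.2 ⟨(Set.Finite.mem_toFinset _).2 hass, fun hle => hs (hle hsP)⟩
      show FibAssLib.incl S m (∏ P ∈ bad.attach, b P.1 P.2) ∈ P
      rw [map_prod]
      exact P.mem_of_dvd (Finset.dvd_prod_of_mem _ (Finset.mem_attach bad ⟨P, hPbad⟩)) (hb P hPbad)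
    obtain ⟨n, hn⟩ := hrad
    refine ⟨n, (FlatInjLib.toFiberMod_eq_zero_iff (S := S) (h ^ n • x)).1 ?_⟩
    rw [map_smul, FibAssLib.smul_eq, map_pow]
    rw [Submodule.mem_colon_singleton, Submodule.mem_bot] at hn
    exact hn

/-- Over a henselian local ring, a flat finite module over a localisation of a finite type algebra is
Mittag-Leffler, provided closed fibre zero divisors lie in the prime. -/
theorem isMittagLeffler_of_reg {A S : Type u} [CommRing A] [HenselianLocalRing A] [CommRing S] [Algebra A S]
    [Algebra.FiniteType A S] (N₀ : Type u) [AddCommGroup N₀] [Module S N₀] [Module A N₀] [IsScalarTower A S N₀]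
    [Module.Finite S N₀] (q : Ideal S) [q.IsPrime] [q.LiesOver (IsLocalRing.maximalIdeal A)]
    (hflat : FlatCA.FlatAt A q N₀)
    (hreg : ∀ s ∉ q, ∀ x : N₀, s • x ∈ IsLocalRing.maximalIdeal A • (⊤ : Submodule A N₀) →
      x ∈ IsLocalRing.maximalIdeal A • (⊤ : Submodule A N₀)) :
    CAlg.IsMittagLeffler A (LocalizedModule q.primeCompl N₀) := by
  let m := IsLocalRing.maximalIdeal A
  obtain ⟨R', _, _, p', _, ⟨hetR, hp'm, hbR⟩, hmain⟩ :=
    DevissExLib.exists_local_open_free_finiteType N₀ m q hflat
  haveI := hetR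
  haveI := hp'm
  -- the section through `p'`
  let α := Ideal.ResidueField.mapₐ m p' (Algebra.ofId A R') hp'm.over
  let π₀ : R' →+* m.ResidueField :=
    (RingEquiv.ofBijective α.toRingHom hbR).symm.toRingHom.comp (algebraMap R' p'.ResidueField)
  let σ₁ : R' →ₐ[A] m.ResidueField :=
    { π₀ with
      commutes' := fun a => by
        show (RingEquiv.ofBijective α.toRingHom hbR).symm (algebraMap R' p'.ResidueField (algebraMap A R' a)) = _
        rw [RingEquiv.symm_apply_eq, ← IsScalarTower.algebraMap_apply]
        exact (α.commutes a).symm }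
  let ε : (A ⧸ m) ≃ₐ[A] m.ResidueField :=
    AlgEquiv.ofBijective (IsScalarTower.toAlgHom A (A ⧸ m) m.ResidueField) (Ideal.bijective_algebraMap_quotient_residueField m)
  haveI : HenselianRing A m := inferInstance
  obtain ⟨τ, hτ⟩ := HenselLib.etaleLifts_of_henselianRing (I := m) R' (ε.symm.toAlgHom.comp σ₁)
  have hτp : m.comap τ.toRingHom = p' := by
    ext r
    have h1 : Ideal.Quotient.mk m (τ r) = ε.symm (σ₁ r) := AlgHom.congr_fun hτ r
    rw [Ideal.mem_comap, ← Ideal.Quotient.eq_zero_iff_mem]
    show Ideal.Quotient.mk m (τ r) = 0 ↔ r ∈ p'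
    rw [h1, map_eq_zero_iff _ ε.symm.injective]
    show (RingEquiv.ofBijective α.toRingHom hbR).symm (algebraMap R' p'.ResidueField r) = 0 ↔ r ∈ p'
    rw [map_eq_zero_iff _ (RingEquiv.injective _), Ideal.algebraMap_residueField_eq_zero]
  letI algR'A : Algebra R' A := τ.toRingHom.toAlgebra
  haveI : IsScalarTower A R' A := IsScalarTower.of_algebraMap_eq fun a => (τ.commutes a).symm
  let L := Localization.AtPrime p'
  have hunit : ∀ r : p'.primeCompl, IsUnit (algebraMap R' A r) := fun r =>
    IsLocalRing.notMem_maximalIdeal.1 fun h => r.2 (hτp.le h)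
  let σL : L →+* A := IsLocalization.lift hunit
  letI algLA : Algebra L A := σL.toAlgebra
  haveI : IsScalarTower R' L A := IsScalarTower.of_algebraMap_eq fun r => (IsLocalization.lift_eq hunit r).symm
  haveI : IsScalarTower A L A := IsScalarTower.of_algebraMap_eq (R := A) (S := L) (A := A) fun a => by
    rw [IsScalarTower.algebraMap_apply A R' L, ← IsScalarTower.algebraMap_apply R' L A,
      ← IsScalarTower.algebraMap_apply A R' A]
  have hσ : Function.Bijective σL := by
    haveI : Algebra.Etale R' A := Algebra.Etale.of_restrictScalars A R' A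
    haveI : Module.Flat L A := (Module.flat_iff_of_isLocalization L p'.primeCompl A).mpr inferInstance
    haveI : IsLocalHom (algebraMap L A) := ⟨fun x hx => by
      obtain ⟨r, s, rfl⟩ := IsLocalization.exists_mk'_eq p'.primeCompl x
      have h1 : algebraMap L A (IsLocalization.mk' L r s) * algebraMap R' A s = algebraMap R' A r := by
        rw [IsScalarTower.algebraMap_apply R' L A, ← map_mul, IsLocalization.mk'_spec, ← IsScalarTower.algebraMap_apply]
      have hr : r ∉ p' := fun hr => by
        have : IsUnit (algebraMap R' A r) := h1 ▸ hx.mul (hunit s)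
        exact (IsLocalRing.mem_maximalIdeal _).1 (hτp.ge hr) this
      exact (IsLocalization.AtPrime.isUnit_mk'_iff _ _ _ _).2 hr⟩
    haveI : Module.FaithfullyFlat L A := Module.FaithfullyFlat.of_flat_of_isLocalHom
    refine ⟨FaithfulSMul.algebraMap_injective L A, fun a => ⟨algebraMap A L a, ?_⟩⟩
    exact (IsScalarTower.algebraMap_apply A L A a).symm
  -- the model over `L`
  letI algLS : Algebra L S := ((algebraMap A S).comp σL).toAlgebra
  haveI : IsScalarTower L A S := IsScalarTower.of_algebraMap_eq fun _ => rfl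
  haveI : IsScalarTower A L S := IsScalarTower.of_algebraMap_eq (R := A) (S := L) (A := S) fun a => by
    rw [IsScalarTower.algebraMap_apply L A S, ← IsScalarTower.algebraMap_apply A L A]
    rfl
  letI : Module L N₀ := Module.compHom N₀ σL
  haveI : IsScalarTower L A N₀ := IsScalarTower.of_algebraMap_smul fun _ _ => rfl
  haveI : IsScalarTower L S N₀ := IsScalarTower.of_algebraMap_smul fun c x => by
    show algebraMap A S (σL c) • x = σL c • x
    rw [algebraMap_smul]
  let eAL : A ≃ₗ[A] L :=
    LinearEquiv.ofBijective (Algebra.linearMap A L) ⟨fun a b hab => by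
      have := congrArg σL hab
      simpa [← show algebraMap L A = σL from rfl, Algebra.linearMap_apply, ← IsScalarTower.algebraMap_apply A L A] using this,
      fun x => ⟨σL x, hσ.1 (IsScalarTower.algebraMap_apply A L A (σL x)).symm⟩⟩
  haveI : Algebra.IsPushout A S L S := ⟨IsBaseChange.of_equiv
    ((TensorProduct.AlgebraTensorModule.congr (LinearEquiv.refl S S) eAL.symm).trans (TensorProduct.AlgebraTensorModule.rid A S S))
    fun x => by
      show eAL.symm x • (1 : S) = algebraMap L S x
      rw [Algebra.smul_def, mul_one, IsScalarTower.algebraMap_apply L A S]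
      congr 1
      apply eAL.injective
      rw [LinearEquiv.apply_symm_apply]
      exact (hσ.1 (IsScalarTower.algebraMap_apply A L A (σL x)).symm).symm⟩
  obtain ⟨g, hg, hfree⟩ := hmain S N₀ LinearMap.id (IsBaseChange.ofEquiv (LinearEquiv.refl S N₀))
  have hgq : g ∉ q := hg q ⟨(Ideal.comap_id q).symm⟩ ⟨by
    refine ((IsLocalRing.maximalIdeal.isMaximal L).eq_of_le (Ideal.IsPrime.comap (algebraMap L S)).ne_top ?_)
    intro x hx
    show algebraMap A S (σL x) ∈ q
    refine (Ideal.over_def q m).le ?_
    rw [IsLocalRing.mem_maximalIdeal] at hx ⊢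
    exact fun hu => hx (by
      obtain ⟨y, hy⟩ := hu.exists_right_inv
      obtain ⟨y, rfl⟩ := hσ.2 y
      rw [← map_mul, ← map_one σL] at hy
      exact IsUnit.of_mul_eq_one y (hσ.1 hy))⟩
  let M := LocalizedModule (Submonoid.powers g) N₀
  haveI := hfree
  haveI : Module.Free A M := Module.Free.of_basis ((Module.Free.chooseBasis L M).mapCoeffs (RingEquiv.ofBijective σL hσ)
    fun c z => algebraMap_smul A c z)
  let l := LocalizedModule.mkLinearMap (Submonoid.powers g) N₀
  -- elements outside `q` act universally injectively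
  have hT : ∀ s ∈ q.primeCompl, FlatCA.UnivInj A ((LinearMap.lsmul S M s).restrictScalars A) := fun s hs Q _ _ =>
    FlatInjLib.univInj_of_projective _ (FlatInjLib.lTensor_injective_of_mem _
      (reg_localized (Submonoid.powers g) l m s fun x hx => ⟨1, one_mem _, by rw [one_smul]; exact hreg s hs x hx⟩)) Q
  let ν := LocalizedModule.mkLinearMap q.primeCompl N₀
  have hgn : ∀ x : Submonoid.powers g, (x : S) ∈ q.primeCompl := fun x => by
    obtain ⟨_, n, rfl⟩ := x
    exact fun h => hgq (Ideal.IsPrime.mem_of_pow_mem inferInstance n h)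
  have hu : ∀ x : Submonoid.powers g, IsUnit (algebraMap S (Module.End S (LocalizedModule q.primeCompl N₀)) x) := fun x =>
    IsLocalizedModule.map_units (S := q.primeCompl) ν (⟨(x : S), hgn x⟩ : q.primeCompl)
  let l' : M →ₗ[S] LocalizedModule q.primeCompl N₀ := IsLocalizedModule.lift (Submonoid.powers g) l ν hu
  have hl' : ∀ x : N₀, l' (l x) = ν x := fun x => LinearMap.congr_fun (IsLocalizedModule.lift_comp (Submonoid.powers g) l ν hu) x
  haveI : IsLocalizedModule q.primeCompl l' :=
    { map_units := fun x => IsLocalizedModule.map_units (S := q.primeCompl) ν x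
      surj := fun z => by
        obtain ⟨⟨x, c⟩, hc⟩ := IsLocalizedModule.surj q.primeCompl ν z
        exact ⟨⟨l x, c⟩, hc.trans (hl' x).symm⟩
      exists_of_eq := fun {a b} hab => by
        obtain ⟨⟨x, k⟩, hk⟩ := IsLocalizedModule.surj (Submonoid.powers g) l (a - b)
        have h0 : ν x = 0 := by
          rw [← hl', ← show (k : S) • (a - b) = l x from hk, map_smul, map_sub, hab, sub_self, smul_zero]
        obtain ⟨c, hc⟩ := (IsLocalizedModule.eq_zero_iff q.primeCompl ν).1 h0
        refine ⟨c * ⟨k, hgn k⟩, ?_⟩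
        rw [← sub_eq_zero, ← smul_sub, Submonoid.smul_def, Submonoid.coe_mul, mul_smul,
          show (k : S) • (a - b) = l x from hk, ← map_smul, show (c : S) • x = 0 from hc, map_zero] }
  exact isMittagLeffler_localized q.primeCompl l' (ProjLib.isMittagLeffler_of_projective M) hT

end PureCritLib
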