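import Groth.Prelude
import Groth.Agent.GeomPureLib.Impurity.Comp
import Groth.Agent.DevissExLib.OpenProj
import Groth.Agent.DevissExLib.Cover
import Groth.Agent.S1212
import Mathlib

/-!
# Purity and flat covers of the relative assassin
-/

set_option autoImplicit false
set_option linter.all false
set_option backward.isDefEq.respectTransparency false

universe u

open GeomPureLib
open scoped TensorProduct

namespace PureCritLib

/-- A relative associated point lifts along a flat algebra to one below any given point above it. -/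
theorem exists_ass_le {A B C : Type u} [CommRing A] [CommRing B] [CommRing C] [Algebra A B] [Algebra A C]
    [Algebra B C] [IsScalarTower A B C] [Module.Flat B C] [Algebra.FiniteType A B] [Algebra.FiniteType A C]
    (N : Type u) [AddCommGroup N] [Module B N] [Module.Finite B N]
    (M : Type u) [AddCommGroup M] [Module C M] [Module B M] [IsScalarTower B C M]
    (g : N →ₗ[B] M) (hg : IsBaseChange C g)
    (t : Ideal A) [t.IsPrime] (P : Ideal B) [P.IsPrime] [P.LiesOver t]
    (hass : FlatCA.fiberIdeal t P ∈ associatedPrimes (t.Fiber B) (FlatCA.fiberMod t B N))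
    (c : Ideal C) [c.IsPrime] (hc : c.comap (algebraMap B C) = P) :
    ∃ x : Ideal C, x.IsPrime ∧ x ≤ c ∧ x.comap (algebraMap B C) = P ∧ x.LiesOver t ∧
      FlatCA.fiberIdeal t x ∈ associatedPrimes (t.Fiber C) (FlatCA.fiberMod t C M) := by
  letI : Algebra B (t.Fiber B) := Algebra.TensorProduct.rightAlgebra
  letI : Algebra C (t.Fiber C) := Algebra.TensorProduct.rightAlgebra
  haveI : IsNoetherianRing (t.Fiber B) := Algebra.FiniteType.isNoetherianRing t.ResidueField _
  haveI : IsNoetherianRing (t.Fiber C) := Algebra.FiniteType.isNoetherianRing t.ResidueField _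
  let φ : t.Fiber B →ₐ[A] t.Fiber C :=
    Algebra.TensorProduct.map (AlgHom.id A t.ResidueField) (IsScalarTower.toAlgHom A B C)
  letI : Algebra (t.Fiber B) (t.Fiber C) := φ.toRingHom.toAlgebra
  letI : Algebra B (t.Fiber C) := ((algebraMap C (t.Fiber C)).comp (algebraMap B C)).toAlgebra
  haveI : IsScalarTower B C (t.Fiber C) := IsScalarTower.of_algebraMap_eq' rfl
  haveI : IsScalarTower B (t.Fiber B) (t.Fiber C) := IsScalarTower.of_algebraMap_eq fun b => by
    show (1 : t.ResidueField) ⊗ₜ[A] algebraMap B C b = φ ((1 : t.ResidueField) ⊗ₜ[A] b)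
    rw [Algebra.TensorProduct.map_tmul]; rfl
  haveI : IsScalarTower t.ResidueField (t.Fiber B) (t.Fiber C) := IsScalarTower.of_algebraMap_eq fun a => by
    show a ⊗ₜ[A] (1 : C) = φ (a ⊗ₜ[A] (1 : B))
    rw [Algebra.TensorProduct.map_tmul, map_one]; rfl
  haveI : IsScalarTower A B (t.Fiber C) := IsScalarTower.of_algebraMap_eq fun a => by
    rw [IsScalarTower.algebraMap_apply B C (t.Fiber C), ← IsScalarTower.algebraMap_apply A B C,
      ← IsScalarTower.algebraMap_apply A C (t.Fiber C)]
  haveI h1 : Algebra.IsPushout A t.ResidueField C (t.Fiber C) :=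
    inferInstanceAs (Algebra.IsPushout A t.ResidueField C (t.ResidueField ⊗[A] C))
  haveI : Algebra.IsPushout A t.ResidueField B (t.Fiber B) :=
    inferInstanceAs (Algebra.IsPushout A t.ResidueField B (t.ResidueField ⊗[A] B))
  haveI : Algebra.IsPushout A B t.ResidueField (t.Fiber B) := Algebra.IsPushout.symm inferInstance
  haveI : Algebra.IsPushout A C t.ResidueField (t.Fiber C) := h1.symm
  haveI : Algebra.IsPushout B C (t.Fiber B) (t.Fiber C) :=
    ((Algebra.IsPushout.comp_iff (R := A) (S := B) (R' := t.ResidueField) (S' := t.Fiber B) (T := C)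
      (T' := t.Fiber C)).1 inferInstance)
  haveI : Module.Flat (t.Fiber B) (t.Fiber C) := RingHom.flat_algebraMap_iff.1
    (RingHom.Flat.isStableUnderBaseChange B C (t.Fiber B) (t.Fiber C) (RingHom.flat_algebraMap_iff.2 inferInstance))
  -- the map of fibre modules
  let Mt := (t.Fiber B) ⊗[B] N
  let Mu := (t.Fiber C) ⊗[C] M
  letI : Module B Mu := Module.compHom Mu (algebraMap B C)
  letI : Module (t.Fiber B) Mu := Module.compHom Mu (φ : t.Fiber B →+* t.Fiber C)
  haveI : IsScalarTower B C Mu := IsScalarTower.of_algebraMap_smul fun r x => rfl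
  haveI : IsScalarTower B (t.Fiber C) Mu := IsScalarTower.of_algebraMap_smul fun r x =>
    algebraMap_smul (t.Fiber C) (algebraMap B C r) x
  haveI : IsScalarTower (t.Fiber B) (t.Fiber C) Mu := IsScalarTower.of_algebraMap_smul fun r x => rfl
  haveI : IsScalarTower B (t.Fiber B) Mu := IsScalarTower.of_algebraMap_smul fun r x => by
    rw [← algebraMap_smul (t.Fiber C) (algebraMap B (t.Fiber B) r) x,
      ← IsScalarTower.algebraMap_apply B (t.Fiber B) (t.Fiber C), algebraMap_smul]
  have hmt : IsBaseChange (t.Fiber B) (TensorProduct.mk B (t.Fiber B) N 1) := TensorProduct.isBaseChange _ _ _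
  have hmu : IsBaseChange (t.Fiber C) (((TensorProduct.mk C (t.Fiber C) M 1).restrictScalars B).comp g) :=
    hg.comp (TensorProduct.isBaseChange _ _ _)
  let G : Mt →ₗ[t.Fiber B] Mu := hmt.lift (((TensorProduct.mk C (t.Fiber C) M 1).restrictScalars B).comp g)
  have hG : IsBaseChange (t.Fiber C) G := by
    refine IsBaseChange.of_comp hmt ?_
    rw [IsBaseChange.lift_comp]
    exact hmu
  have hcomap : ∀ Q : Ideal (t.Fiber C), (Q.comap (algebraMap (t.Fiber B) (t.Fiber C))).comap (FibAssLib.incl B t) =
      (Q.comap (FibAssLib.incl C t)).comap (algebraMap B C) := fun Q => by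
    ext b
    show φ ((1 : t.ResidueField) ⊗ₜ[A] b) ∈ Q ↔ (1 : t.ResidueField) ⊗ₜ[A] algebraMap B C b ∈ Q
    rw [Algebra.TensorProduct.map_tmul]; rfl
  -- the point
  haveI hct : c.LiesOver t := ⟨by
    show t = c.comap (algebraMap A C)
    rw [IsScalarTower.algebraMap_eq A B C, ← Ideal.comap_comap, hc]
    exact Ideal.over_def P t⟩
  obtain ⟨c', hc'I, hc'⟩ : ∃ c' : Ideal (t.Fiber C), c'.IsPrime ∧ c'.comap (FibAssLib.incl C t) = c := by
    let e := PrimeSpectrum.preimageEquivFiber A C ⟨t, inferInstance⟩
    refine ⟨(e ⟨⟨c, inferInstance⟩, PrimeSpectrum.ext hct.over.symm⟩).asIdeal, inferInstance, ?_⟩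
    exact congrArg (fun w => w.1.asIdeal) (e.symm_apply_apply ⟨⟨c, inferInstance⟩, PrimeSpectrum.ext hct.over.symm⟩)
  haveI := hc'I
  let q := FlatCA.fiberIdeal t P
  haveI hqI : q.IsPrime := hass.1
  have hqc : c'.comap (algebraMap (t.Fiber B) (t.Fiber C)) = q := by
    rw [← GeomPureLib.fiberIdeal_comap t (c'.comap _), hcomap, hc', hc]
  obtain ⟨-, z, hz⟩ := isAssociatedPrime_iff.1 hass
  have hle : (⊥ : Submodule (t.Fiber C) Mu).colon {G z} ≤ c' := by
    rw [GeomPureLib.baseChange_colon hG, ← hz]
    exact Ideal.map_le_iff_le_comap.2 hqc.ge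
  obtain ⟨Q, hQmin, hQc⟩ := Ideal.exists_minimalPrimes_le hle
  obtain ⟨y, hy⟩ := Submodule.exists_eq_colon_of_mem_minimalPrimes hQmin
  haveI : Q.IsPrime := hQmin.1.1
  have hQq : Q.comap (algebraMap (t.Fiber B) (t.Fiber C)) = q := by
    refine le_antisymm ((Ideal.comap_mono hQc).trans hqc.le) (Ideal.map_le_iff_le_comap.1 ?_)
    have := hQmin.1.2
    rwa [GeomPureLib.baseChange_colon hG, ← hz] at this
  refine ⟨Q.comap (FibAssLib.incl C t), Ideal.IsPrime.comap _, hc' ▸ Ideal.comap_mono hQc, ?_,
    GeomPureLib.liesOver_comap_incl t Q, ?_⟩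
  · rw [← hcomap, hQq]
    exact GeomPureLib.fiberIdeal_comap_eq t P inferInstance
  · rw [GeomPureLib.fiberIdeal_comap t Q]
    exact isAssociatedPrime_iff.2 ⟨inferInstance, y, hy⟩

/-- A pure module: relative associated points below the fibre specialise into it. -/
theorem exists_specialization {A B : Type u} [CommRing A] [CommRing B] [Algebra A B] (N : Type u) [AddCommGroup N]
    [Module B N] [Module A N] [IsScalarTower A B N] (p : Ideal A) [p.IsPrime] (h : FlatCA.IsPureAlong A B N p)
    (t : Ideal A) [t.IsPrime] (ht : t ≤ p) (P : Ideal B) [P.IsPrime] [P.LiesOver t]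
    (hass : FlatCA.fiberIdeal t P ∈ associatedPrimes (t.Fiber B) (FlatCA.fiberMod t B N)) :
    ∃ P' : Ideal B, P'.IsPrime ∧ P ≤ P' ∧ P'.LiesOver p := by
  by_contra hne
  push Not at hne
  haveI : p.LiesOver p := ⟨Ideal.ext fun _ => Iff.rfl⟩
  haveI : IsLocalization (⊥ : Submonoid A) A := IsLocalization.self bot_le
  haveI : IsLocalization (Algebra.algebraMapSubmonoid B (⊥ : Submonoid A)) B := IsLocalization.self (by
    rintro _ ⟨c, hc, rfl⟩
    rw [Submonoid.mem_bot.1 hc, map_one]
    exact isUnit_one)
  haveI : Algebra.IsPushout A B A B := Algebra.isPushout_of_isLocalization (⊥ : Submonoid A) A B B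
  have hb : IsBaseChange B (LinearMap.id : N →ₗ[B] N) := (IsBaseChange.ofEquiv (LinearEquiv.refl _ _))
  exact h A B N LinearMap.id t p P (DevissExLib.isEtaleNhd_refl p)
    ⟨inferInstance, hb, ht, inferInstance, inferInstance, hass,
      fun P' hP' hle hl => hne P' hP' hle hl⟩

/-- Absence of impurities passes down from a flat algebra meeting the relative assassin. -/
theorem noImp_of_cover {A B C : Type u} [CommRing A] [CommRing B] [CommRing C] [Algebra A B] [Algebra A C]
    [Algebra B C] [IsScalarTower A B C] [Module.Flat B C] [Algebra.FiniteType A B] [Algebra.FiniteType A C]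
    (N : Type u) [AddCommGroup N] [Module B N] [Module.Finite B N]
    (M : Type u) [AddCommGroup M] [Module C M] [Module B M] [IsScalarTower B C M]
    (g : N →ₗ[B] M) (hg : IsBaseChange C g) (p : Ideal A) [p.IsPrime]
    {A' : Type u} [CommRing A'] [Algebra A A'] (t' t : Ideal A') [t'.IsPrime] [t.IsPrime]
    (hcov : ∀ (s : Ideal A) [s.IsPrime], s = t'.comap (algebraMap A A') → s ≤ p → ∀ (Q : Ideal B) [Q.IsPrime],
      Q.LiesOver s → FlatCA.fiberIdeal s Q ∈ associatedPrimes (s.Fiber B) (FlatCA.fiberMod s B N) →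
      ∃ c : Ideal C, c.IsPrime ∧ c.comap (algebraMap B C) = Q)
    (h : GeomPureLib.NoImp A C M p A' t' t) : GeomPureLib.NoImp A B N p A' t' t := by
  intro B' N' _ _ _ _ _ _ _ _ _ _ _ _ f P _ ⟨hpush, hbc, htt, hto, hPt, hass, hno⟩
  haveI := hpush
  haveI hp0 : Algebra.IsPushout A A' B B' := hpush.symm
  haveI := hto
  haveI := hPt
  let s := t'.comap (algebraMap A A')
  haveI : t'.LiesOver s := ⟨rfl⟩
  have hsp : s ≤ p := (Ideal.comap_mono htt).trans (Ideal.over_def t p).ge
  have hassQ := (GeomPureLib.assFibre_correspond s t' hbc).2 P inferInstance hPt hass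
  haveI : (P.comap (algebraMap B B')).LiesOver s := ⟨by
    show t'.comap (algebraMap A A') = (P.comap (algebraMap B B')).comap (algebraMap A B)
    rw [Ideal.over_def P t', Ideal.under_def, Ideal.comap_comap, Ideal.comap_comap, ← IsScalarTower.algebraMap_eq,
      ← IsScalarTower.algebraMap_eq]⟩
  obtain ⟨c, hcI, hc⟩ := hcov s rfl hsp (P.comap (algebraMap B B')) inferInstance hassQ
  -- the base change of `C`
  let C' := B' ⊗[B] C
  letI : Algebra C C' := Algebra.TensorProduct.rightAlgebra
  haveI : IsScalarTower B C C' := IsScalarTower.of_algebraMap_eq fun b =>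
    ((Algebra.TensorProduct.includeRight : C →ₐ[B] C').commutes b).symm
  haveI : Algebra.IsPushout B B' C C' := inferInstanceAs (Algebra.IsPushout B B' C (B' ⊗[B] C))
  haveI : Module.Flat B' C' := RingHom.flat_algebraMap_iff.1
    (RingHom.Flat.isStableUnderBaseChange B C B' C' (RingHom.flat_algebraMap_iff.2 inferInstance))
  haveI : IsScalarTower A C C' := IsScalarTower.of_algebraMap_eq (R := A) (S := C) (A := C') fun a => by
    rw [IsScalarTower.algebraMap_apply A B' C', IsScalarTower.algebraMap_apply A B B',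
      ← IsScalarTower.algebraMap_apply B B' C', IsScalarTower.algebraMap_apply A B C,
      ← IsScalarTower.algebraMap_apply B C C']
  haveI : IsScalarTower A A' C' := inferInstance
  haveI hpC : Algebra.IsPushout A A' C C' :=
    (Algebra.IsPushout.comp_iff (R := A) (S := B) (R' := A') (S' := B') (T := C) (T' := C')).2
      (Algebra.IsPushout.symm inferInstance) |>.symm
  haveI : Algebra.FiniteType A' B' :=
    Algebra.FiniteType.equiv (inferInstance : Algebra.FiniteType A' (A' ⊗[A] B)) (Algebra.IsPushout.equiv A A' B B')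
  haveI : Algebra.FiniteType A' C' :=
    Algebra.FiniteType.equiv (inferInstance : Algebra.FiniteType A' (A' ⊗[A] C)) (Algebra.IsPushout.equiv A A' C C')
  haveI : Module.Finite B' N' := Module.Finite.equiv hbc.equiv
  let M' := C' ⊗[B'] N'
  letI : Module C M' := Module.compHom M' (algebraMap C C')
  haveI : IsScalarTower C C' M' := IsScalarTower.of_algebraMap_smul fun _ _ => rfl
  haveI : IsScalarTower B C' M' := TensorProduct.isScalarTower_left
  haveI : IsScalarTower B B' M' := IsScalarTower.of_algebraMap_smul fun b z => by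
    rw [← algebraMap_smul C' (algebraMap B B' b) z, ← IsScalarTower.algebraMap_apply, algebraMap_smul]
  haveI : IsScalarTower B C M' := IsScalarTower.of_algebraMap_smul fun b z => by
    rw [← algebraMap_smul C' (algebraMap B C b) z, ← IsScalarTower.algebraMap_apply, algebraMap_smul]
  let g' : N' →ₗ[B'] M' := TensorProduct.mk B' C' N' 1
  have hg' : IsBaseChange C' g' := TensorProduct.isBaseChange _ _ _
  let G : M →ₗ[C] M' := hg.lift ((g'.restrictScalars B).comp f)
  have hG : IsBaseChange C' G := IsBaseChange.of_comp hg (by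
    rw [IsBaseChange.lift_comp]
    exact hbc.comp hg')
  -- the point
  obtain ⟨cQ, hcQ⟩ := DevissExLib.mem_range_comap_tensor (T := B) (C := B') (S₁ := C) ⟨P, inferInstance⟩
    ⟨⟨c, hcI⟩, PrimeSpectrum.ext hc⟩
  obtain ⟨x, hxI, -, hxP, hxt, hxass⟩ := exists_ass_le (A := A') N' M' g' hg' t' P hass cQ.asIdeal
    (congrArg PrimeSpectrum.asIdeal hcQ)
  haveI := hxI
  refine h C' M' G x ⟨Algebra.IsPushout.symm inferInstance, hG, htt, hto, hxt, hxass, fun y _ hxy hyt => ?_⟩
  refine hno (y.comap (algebraMap B' C')) (hxP ▸ Ideal.comap_mono hxy) ⟨?_⟩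
  rw [Ideal.under_def, Ideal.comap_comap, ← IsScalarTower.algebraMap_eq]
  exact Ideal.over_def y t

/-- A projective module has no impurity at the closed point of a local base change. -/
theorem noImp_of_projective {A C : Type u} [CommRing A] [CommRing C] [Algebra A C] [Algebra.FiniteType A C]
    (M : Type u) [AddCommGroup M] [Module C M] [Module.Finite C M] [Module A M] [IsScalarTower A C M]
    [Module.Projective A M] (p : Ideal A) [p.IsPrime] {A' : Type u} [CommRing A'] [IsLocalRing A'] [Algebra A A']
    (t' : Ideal A') [t'.IsPrime] : GeomPureLib.NoImp A C M p A' t' (IsLocalRing.maximalIdeal A') := by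
  intro C' M' _ _ _ _ _ _ _ _ _ _ _ _ f x _ ⟨hpush, hbc, htt, hto, hxt, hass, hno⟩
  haveI := hpush
  haveI : Algebra.IsPushout A A' C C' := hpush.symm
  haveI : Algebra.FiniteType A' C' :=
    Algebra.FiniteType.equiv (inferInstance : Algebra.FiniteType A' (A' ⊗[A] C)) (Algebra.IsPushout.equiv A A' C C')
  haveI : Module.Finite C' M' := Module.Finite.equiv hbc.equiv
  haveI : Module.Projective A' M' := by
    let E : C' ⊗[C] M ≃ₗ[A'] A' ⊗[A] M := Algebra.IsPushout.cancelBaseChange A A' C C' M
    exact Module.Projective.of_equiv (E.symm.trans (hbc.equiv.restrictScalars A'))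
  haveI : IsNoetherianRing ((IsLocalRing.maximalIdeal A').Fiber C') :=
    Algebra.FiniteType.isNoetherianRing (IsLocalRing.maximalIdeal A').ResidueField _
  letI : Algebra C' ((IsLocalRing.maximalIdeal A').Fiber C') := Algebra.TensorProduct.rightAlgebra
  haveI : Module.Finite ((IsLocalRing.maximalIdeal A').Fiber C')
      (FlatCA.fiberMod (IsLocalRing.maximalIdeal A') C' M') :=
    inferInstanceAs (Module.Finite ((IsLocalRing.maximalIdeal A').Fiber C')
      (((IsLocalRing.maximalIdeal A').Fiber C') ⊗[C'] M'))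
  haveI := hxt
  -- the associated point inside `M' ⊗ κ(t')`
  letI : Algebra C' (t'.Fiber C') := Algebra.TensorProduct.rightAlgebra
  haveI : Algebra.IsPushout A' t'.ResidueField C' (t'.Fiber C') :=
    inferInstanceAs (Algebra.IsPushout A' t'.ResidueField C' (t'.ResidueField ⊗[A'] C'))
  let e := ((Algebra.IsPushout.cancelBaseChange A' t'.ResidueField C' (t'.Fiber C') M').restrictScalars A').trans
    (TensorProduct.comm A' t'.ResidueField M')
  have he : ∀ (s : C') (z : (t'.Fiber C') ⊗[C'] M'), e (s • z) = s • e z := by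
    have he' : ∀ (s : C') (y : M' ⊗[A'] t'.ResidueField), e.symm (s • y) = s • e.symm y := by
      have hsymm : ∀ (m : M') (k : t'.ResidueField),
          e.symm (m ⊗ₜ[A'] k) = algebraMap t'.ResidueField (t'.Fiber C') k ⊗ₜ[C'] m := fun m k =>
        Algebra.IsPushout.cancelBaseChangeAux_symm_tmul A' t'.ResidueField C' (t'.Fiber C') M' k m
      intro s y
      induction y using TensorProduct.induction_on with
      | zero => simp
      | add a b ha hb => simp only [smul_add, map_add, ha, hb]
      | tmul m k => rw [TensorProduct.smul_tmul', hsymm, hsymm, TensorProduct.tmul_smul]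
    intro s z
    apply e.symm.injective
    rw [he', LinearEquiv.symm_apply_apply, LinearEquiv.symm_apply_apply]
  have hq : x ∈ FlatCA.ass C' (M' ⊗[A'] t'.ResidueField) := by
    haveI : IsNoetherianRing (t'.Fiber C') := Algebra.FiniteType.isNoetherianRing t'.ResidueField _
    obtain ⟨-, w, hw⟩ := isAssociatedPrime_iff.1 hass
    refine ⟨inferInstance, e w, Ideal.ext fun s => ?_⟩
    rw [Submodule.mem_annihilator_span_singleton, ← he, LinearEquiv.map_eq_zero_iff,
      ← GeomPureLib.fiberIdeal_comap_eq t' x inferInstance, Ideal.mem_comap, hw, Submodule.mem_colon_singleton,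
      Submodule.mem_bot]
    exact Eq.congr_left (FibAssLib.smul_eq (S := C') (N := M') t' s w).symm
  obtain ⟨y, hy, hle⟩ := Ideal.exists_le_maximal _ (Groth.Agent.S1212.result M' t' x hq)
  haveI : y.IsPrime := hy.isPrime
  refine hno y (le_sup_left.trans hle) ⟨?_⟩
  exact (IsLocalRing.maximalIdeal.isMaximal A').eq_of_le (Ideal.IsPrime.comap (algebraMap A' C')).ne_top
    (Ideal.map_le_iff_le_comap.1 (le_sup_right.trans hle))

/-- Universal purity from a flat cover of the relative assassin with projective sections. -/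
theorem isUnivPureAlong_of_cover {A B C : Type u} [CommRing A] [CommRing B] [CommRing C] [Algebra A B] [Algebra A C]
    [Algebra B C] [IsScalarTower A B C] [Module.Flat B C] [Algebra.FiniteType A B] [Algebra.FiniteType A C]
    (N : Type u) [AddCommGroup N] [Module B N] [Module A N] [IsScalarTower A B N] [Module.Finite B N]
    (M : Type u) [AddCommGroup M] [Module C M] [Module B M] [IsScalarTower B C M] [Module A M] [IsScalarTower A C M]
    [Module.Projective A M] (g : N →ₗ[B] M) (hg : IsBaseChange C g) (p : Ideal A) [p.IsPrime]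
    (hcov : ∀ (s : Ideal A) [s.IsPrime], s ≤ p → ∀ (Q : Ideal B) [Q.IsPrime], Q.LiesOver s →
      FlatCA.fiberIdeal s Q ∈ associatedPrimes (s.Fiber B) (FlatCA.fiberMod s B N) →
      ∃ c : Ideal C, c.IsPrime ∧ c.comap (algebraMap B C) = Q) :
    FlatCA.IsUnivPureAlong A B N p := by
  intro A' B' N' _ _ _ _ _ _ _ _ _ _ _ _ _ _ f t' t _ _ P _ himp
  have htt := himp.2.2.1
  haveI : t.LiesOver p := himp.2.2.2.1
  let A₃ := Localization.AtPrime t
  let u' := t'.map (algebraMap A' A₃)
  let u := IsLocalRing.maximalIdeal A₃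
  have hd : Disjoint (t.primeCompl : Set A') (t' : Set A') :=
    Set.disjoint_left.2 fun a ha ha' => ha (htt ha')
  haveI : u'.IsPrime := IsLocalization.isPrime_of_isPrime_disjoint _ A₃ _ inferInstance hd
  haveI : u'.LiesOver t' := ⟨(IsLocalization.comap_map_of_isPrime_disjoint _ A₃ inferInstance hd).symm⟩
  haveI : u.LiesOver t := ⟨(IsLocalization.AtPrime.comap_maximalIdeal A₃ t).symm⟩
  haveI : Module.Finite C M := Module.Finite.equiv hg.equiv
  exact GeomPureLib.impurity_ascend himp u' u (IsLocalRing.le_maximalIdeal Ideal.IsPrime.ne_top')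
    (noImp_of_cover N M g hg p u' u (fun s _ _ hs => hcov s hs) (noImp_of_projective M p u'))

/-- Projective modules are universally pure. -/
theorem isUnivPureAlong_of_projective {A B : Type u} [CommRing A] [CommRing B] [Algebra A B] [Algebra.FiniteType A B]
    (N : Type u) [AddCommGroup N] [Module B N] [Module A N] [IsScalarTower A B N] [Module.Finite B N]
    [Module.Projective A N] (p : Ideal A) [p.IsPrime] : FlatCA.IsUnivPureAlong A B N p :=
  isUnivPureAlong_of_cover (C := B) N N LinearMap.id (IsBaseChange.ofEquiv (LinearEquiv.refl _ _)) p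
    fun s _ _ Q hQ _ _ => ⟨Q, hQ, Ideal.comap_id Q⟩

end PureCritLib
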