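import Groth.Prelude
import Groth.Agent.DevissExLib.UnivInjShrink
import Mathlib

/-!
# Spreading universal injectivity of a fibrewise regular element on a flat module
-/

set_option autoImplicit false
set_option linter.all false

universe u

open DevissExLib
open scoped TensorProduct

namespace PureCritLib

variable {R B M : Type u} [CommRing R] [CommRing B] [Algebra R B] [AddCommGroup M] [Module B M] [Module R M]
  [IsScalarTower R B M]

/-- An element regular on all fibres near a prime of a flat module is universally injective over a neighbourhood. -/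
theorem exists_univInj_away_of_flat [Algebra.FinitePresentation R B] [Module.FinitePresentation B M] [Module.Flat R M]
    (p : Ideal R) [p.IsPrime] (r : B)
    (hfib : ∀ (π : Ideal R) [π.IsPrime], π ≤ p →
      Function.Injective (((LinearMap.lsmul B M r).restrictScalars R).baseChange π.ResidueField)) :
    ∃ g : R, g ∉ p ∧ ∀ (Q : Type u) [AddCommGroup Q] [Module R Q], (Function.Bijective fun x : Q => g • x) →
      Function.Injective (((LinearMap.lsmul B M r).restrictScalars R).rTensor Q) := by
  let u := (LinearMap.lsmul B M r).restrictScalars R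
  let good : Set (PrimeSpectrum B) := {w |
    (∀ m : M, r • m = 0 → ∃ t ∉ w.asIdeal, t • m = 0) ∧
      w ∈ FlatLib.flatLocus R B (M ⧸ (Ideal.span {r} • (⊤ : Submodule B M)))}
  let W : Set (PrimeSpectrum B) := interior good ∪ PrimeSpectrum.basicOpen r
  have hW : IsOpen W := isOpen_interior.union (PrimeSpectrum.basicOpen r).isOpen
  have hnear : ∀ w : PrimeSpectrum B, w.asIdeal.comap (algebraMap R B) ≤ p → w ∈ W := by
    intro w hw
    by_cases hrw : r ∈ w.asIdeal
    swap
    · exact Or.inr hrw
    let π := w.asIdeal.comap (algebraMap R B)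
    let κ := π.ResidueField
    have hinj : Function.Injective (u.rTensor κ) := by
      rw [← LinearMap.lTensor_inj_iff_rTensor_inj]
      exact hfib π hw
    have hflat : w ∈ FlatLib.flatLocus R B M :=
      (FlatLib.flat_localized_iff w.asIdeal.primeCompl (LocalizedModule.mkLinearMap _ _)).mpr fun X _ _ N x hx =>
        ⟨1, one_mem _, by
          rw [one_smul]
          exact Module.Flat.lTensor_preserves_injective_linearMap _ Subtype.val_injective
            (hx.trans (map_zero _).symm)⟩
    obtain ⟨U, hU, hwU, hUg⟩ := FlatLib.slice_point w r hrw hflat (by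
      rintro y ⟨t, ht, hty⟩
      have h0 : ∀ v ∈ π.map (algebraMap R B) • (⊤ : Submodule B M), (v ⊗ₜ[R] (1 : κ)) = 0 := by
        intro v hv
        rw [← Submodule.restrictScalars_mem R, Ideal.smul_restrictScalars,
          Submodule.restrictScalars_top] at hv
        refine Submodule.smul_induction_on hv (fun a ha m _ => ?_) fun x y hx hy => by
          rw [TensorProduct.add_tmul, hx, hy, add_zero]
        rw [TensorProduct.smul_tmul, Algebra.smul_def, mul_one, Ideal.algebraMap_residueField_eq_zero.2 ha,
          TensorProduct.tmul_zero]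
      have h1 : u.rTensor κ ((t • y) ⊗ₜ[R] (1 : κ)) = 0 := by
        rw [LinearMap.rTensor_tmul]
        refine (congrArg (· ⊗ₜ[R] (1 : κ)) ?_).trans (h0 _ hty)
        show r • t • y = t • r • y
        rw [smul_comm]
      have h2 : (t • y) ⊗ₜ[R] (1 : κ) = 0 := hinj (h1.trans (map_zero _).symm)
      have h3 : (1 : κ) ⊗ₜ[R] (t • y) = 0 := by
        have := congrArg (TensorProduct.comm R M κ) h2
        rwa [TensorProduct.comm_tmul, map_zero] at this
      obtain ⟨c, hc, hcy⟩ := FlatLib.exists_smul_mem_of_tmul_eq_zero π h3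
      refine ⟨algebraMap R B c * t, fun h => (w.isPrime.mem_or_mem h).elim hc ht, ?_⟩
      rw [mul_smul, algebraMap_smul, ← Submodule.restrictScalars_mem R, Ideal.smul_restrictScalars,
        Submodule.restrictScalars_top]
      exact hcy)
    exact Or.inl (mem_interior.2 ⟨U, fun v hv => hUg v hv, hU, hwU⟩)
  obtain ⟨I, hI⟩ := (PrimeSpectrum.isClosed_iff_zeroLocus_ideal Wᶜ).1 hW.isClosed_compl
  obtain ⟨g, hgp, hgI⟩ : ∃ g : R, g ∉ p ∧ algebraMap R B g ∈ I := by
    by_contra hne
    push Not at hne
    obtain ⟨Q, hQ, hIQ, hQd⟩ := Ideal.exists_le_prime_disjoint I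
      (Algebra.algebraMapSubmonoid B p.primeCompl) (Set.disjoint_left.2 fun b hb => by
        rintro ⟨c, hc, rfl⟩
        exact hne c hc hb)
    have h1 : (⟨Q, hQ⟩ : PrimeSpectrum B) ∈ W := hnear _ fun c hc => by
      by_contra hcp
      exact Set.disjoint_left.1 hQd hc ⟨c, hcp, rfl⟩
    exact (show (⟨Q, hQ⟩ : PrimeSpectrum B) ∈ Wᶜ from hI ▸ hIQ) h1
  refine ⟨g, hgp, fun Q _ _ hgQ => ?_⟩
  have hu : ∀ z : M ⊗[R] Q, u.rTensor Q z = r • z := fun z => by
    induction z using TensorProduct.induction_on with
    | zero => simp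
    | tmul m q => rw [LinearMap.rTensor_tmul, TensorProduct.smul_tmul']; rfl
    | add x y hx hy => rw [map_add, hx, hy, smul_add]
  rw [injective_iff_map_eq_zero]
  intro z hz
  rw [hu] at hz
  let J : Ideal B := (⊥ : Submodule B (M ⊗[R] Q)).colon {z}
  have hJ : algebraMap R B g ∈ J.radical := by
    rw [Ideal.radical_eq_sInf, Submodule.mem_sInf]
    rintro P ⟨hJP, hP⟩
    by_contra hgP
    obtain ⟨t, htP, ht⟩ : ∃ t ∉ P, t • z = 0 := by
      have hW' : (⟨P, hP⟩ : PrimeSpectrum B) ∈ W := by
        by_contra hc
        have : (⟨P, hP⟩ : PrimeSpectrum B) ∈ PrimeSpectrum.zeroLocus (I : Set B) := hI ▸ hc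
        exact hgP (this hgI)
      rcases hW' with h1 | h1
      · obtain ⟨h2, h3⟩ := interior_subset h1
        exact exists_smul_eq_zero_of_flat_quotient _ r h2 h3 z hz
      · exact ⟨r, h1, hz⟩
    exact htP (hJP (by rw [Submodule.mem_colon_singleton, Submodule.mem_bot]; exact ht))
  obtain ⟨n, hn⟩ := hJ
  rw [Submodule.mem_colon_singleton, Submodule.mem_bot, ← map_pow, algebraMap_smul] at hn
  let e : Q ≃ₗ[R] Q := LinearEquiv.ofBijective (LinearMap.lsmul R Q g) hgQ
  have he : ∀ v : M ⊗[R] Q, e.lTensor M v = g • v := fun v => by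
    induction v using TensorProduct.induction_on with
    | zero => simp
    | tmul m q => rw [LinearEquiv.lTensor_tmul, ← TensorProduct.tmul_smul]; rfl
    | add x y hx hy => rw [map_add, hx, hy, smul_add]
  induction n with
  | zero => simpa using hn
  | succ n ih =>
    refine ih ((e.lTensor M).injective ?_)
    rw [he, map_zero, smul_smul, ← pow_succ']
    exact hn

end PureCritLib
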