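import Groth.Prelude
import Groth.Agent.PureCritLib.Cover
import Groth.Agent.PureCritLib.Shrink
import Groth.Agent.DevissExLib.PureDescent
import Groth.Agent.DevissExLib.LocalFree
import Groth.Agent.FlatInjLib.AssFibre
import Groth.Agent.S1221
import Mathlib

/-!
# Projectivity near a point of purity
-/

set_option autoImplicit false
set_option linter.all false
set_option backward.isDefEq.respectTransparency false

universe u

open AlgebraicGeometry CategoryTheory
open scoped TensorProduct

namespace PureCritLib

/-- An element acting injectively after base change is regular on the base changed module. -/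
theorem regular_of_injective_baseChange {R κ B F P : Type u} [CommRing R] [CommRing κ] [CommRing B] [CommRing F]
    [Algebra R κ] [Algebra R B] [Algebra κ F] [Algebra B F] [Algebra R F] [IsScalarTower R κ F] [IsScalarTower R B F]
    [Algebra.IsPushout R κ B F] [AddCommGroup P] [Module B P] [Module R P] [IsScalarTower R B P] (r : B)
    (h : Function.Injective (((LinearMap.lsmul B P r).restrictScalars R).baseChange κ))
    (m : F ⊗[B] P) (hm : algebraMap B F r • m = 0) : m = 0 := by
  let e := Algebra.IsPushout.cancelBaseChange R κ B F P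
  have hs : ∀ (a : κ) (m : P), e.symm (a ⊗ₜ[R] m) = algebraMap κ F a ⊗ₜ[B] m := fun a m =>
    Algebra.IsPushout.cancelBaseChangeAux_symm_tmul R κ B F P a m
  have key : ∀ w : κ ⊗[R] P, e.symm (((LinearMap.lsmul B P r).restrictScalars R).baseChange κ w) =
      algebraMap B F r • e.symm w := fun w => by
    induction w using TensorProduct.induction_on with
    | zero => simp
    | tmul a m =>
      rw [LinearMap.baseChange_tmul, LinearMap.restrictScalars_apply, LinearMap.lsmul_apply, hs, hs,
        algebraMap_smul, TensorProduct.tmul_smul]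
    | add x y hx hy => simp only [map_add, smul_add, hx, hy]
  obtain ⟨w, rfl⟩ := e.symm.surjective m
  rw [← key, LinearEquiv.map_eq_zero_iff] at hm
  rw [h (hm.trans (map_zero _).symm), map_zero]

/-- A module mapping to a projective module by a flat algebra covering the locus of a universally injective element
becomes projective away from `g`. -/
theorem projective_away_of_regular {R B S : Type u} [CommRing R] [CommRing B] [CommRing S] [Algebra R B]
    [Algebra.FiniteType R B] [Algebra B S] [Module.Flat B S] [Algebra R S] [IsScalarTower R B S]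
    (N : Type u) [AddCommGroup N] [Module B N] [Module R N] [IsScalarTower R B N] [Module.Finite B N]
    (M : Type u) [AddCommGroup M] [Module S M] [Module B M] [IsScalarTower B S M] [Module R M] [IsScalarTower R S M]
    [IsScalarTower R B M] [Module.Projective R M] (f : N →ₗ[B] M) (hf : IsBaseChange S f) (t : B) (g : R)
    (htU : ∀ (Q : Ideal B) [Q.IsPrime], t ∉ Q → ∃ c : Ideal S, c.IsPrime ∧ c.comap (algebraMap B S) = Q)
    (huniv : ∀ (Q : Type u) [AddCommGroup Q] [Module R Q], (Function.Bijective fun x : Q => g • x) →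
      Function.Injective (((LinearMap.lsmul B N t).restrictScalars R).rTensor Q)) :
    Module.Projective (Localization.Away g) (Localization.Away g ⊗[R] N) := by
  let A := Localization.Away g
  -- injectivity on modules where `g` is bijective
  have hinj : ∀ (Q : Type u) [AddCommGroup Q] [Module R Q], (Function.Bijective fun x : Q => g • x) →
      Function.Injective ((f.restrictScalars R).rTensor Q) := by
    intro Q _ _ hgQ
    rw [injective_iff_map_eq_zero]
    intro z hz
    let E : S ⊗[B] (N ⊗[R] Q) ≃ₗ[B] M ⊗[R] Q :=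
      (TensorProduct.AlgebraTensorModule.assoc R B B S N Q).symm.trans
        (TensorProduct.AlgebraTensorModule.congr (hf.equiv.restrictScalars B) (LinearEquiv.refl R Q))
    have hE : ∀ w, E ((1 : S) ⊗ₜ[B] w) = (f.restrictScalars R).rTensor Q w := fun w => by
      induction w using TensorProduct.induction_on with
      | zero => simp
      | tmul m x => simp [E, IsBaseChange.equiv_tmul]
      | add x y hx hy => simp only [TensorProduct.tmul_add, map_add, hx, hy]
    have htop := FlatInjLib.map_annihilator_eq_top_of_tmul_eq_zero (S' := S) z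
      (E.injective (by rw [hE, hz, map_zero]))
    have hrad : t ∈ (Submodule.span B {z}).annihilator.radical := by
      rw [Ideal.radical_eq_sInf, Submodule.mem_sInf]
      rintro P ⟨hJP, hP⟩
      by_contra htP
      haveI := hP
      obtain ⟨c, hc, hcP⟩ := htU P htP
      exact hc.ne_top (top_le_iff.1 (htop ▸ Ideal.map_le_iff_le_comap.2 (hJP.trans hcP.ge)))
    obtain ⟨n, hn⟩ := hrad
    rw [Submodule.mem_annihilator_span_singleton] at hn
    have hu : ∀ w : N ⊗[R] Q, ((LinearMap.lsmul B N t).restrictScalars R).rTensor Q w = t • w := fun w => by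
      induction w using TensorProduct.induction_on with
      | zero => simp
      | tmul m x => rw [LinearMap.rTensor_tmul, TensorProduct.smul_tmul']; rfl
      | add x y hx hy => rw [map_add, hx, hy, smul_add]
    clear htop hz
    induction n with
    | zero => simpa using hn
    | succ n ih =>
      refine ih (huniv Q hgQ ?_)
      rw [hu, map_zero, smul_smul, ← pow_succ']
      exact hn
  let ι : A ⊗[R] N →ₗ[A] A ⊗[R] M := (f.restrictScalars R).baseChange A
  obtain ⟨s, hs, hspan⟩ := DevissExLib.exists_countable_span R (C := B) (M := N)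
  refine DevissExLib.projective_of_univInj (ProjLib.isMittagLeffler_of_projective (A ⊗[R] M)) ι ?_
    ⟨TensorProduct.mk R A N 1 '' s, hs.image _, ?_⟩
  · intro Q _ _
    rw [← LinearMap.lTensor_inj_iff_rTensor_inj]
    letI : Module R Q := Module.compHom Q (algebraMap R A)
    haveI : IsScalarTower R A Q := IsScalarTower.of_algebraMap_smul fun _ _ => rfl
    have hgQ : Function.Bijective fun x : Q => g • x := by
      have h := (IsLocalization.Away.algebraMap_isUnit (S := A) g).map (Algebra.lsmul A A Q)
      have := (Module.End.isUnit_iff _).1 h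
      have he : (fun x : Q => g • x) = fun x : Q => algebraMap R A g • x := funext fun x => (algebraMap_smul A g x).symm
      rw [he]
      exact this
    have h1 := (LinearMap.lTensor_inj_iff_rTensor_inj Q _).2 (hinj Q hgQ)
    let eN : Q ⊗[A] (A ⊗[R] N) ≃ₗ[A] Q ⊗[R] N := TensorProduct.AlgebraTensorModule.cancelBaseChange R A A Q N
    let eM : Q ⊗[A] (A ⊗[R] M) ≃ₗ[A] Q ⊗[R] M := TensorProduct.AlgebraTensorModule.cancelBaseChange R A A Q M
    have key : ∀ w, eM (ι.lTensor Q w) = (f.restrictScalars R).lTensor Q (eN w) := fun w => by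
      induction w using TensorProduct.induction_on with
      | zero => simp
      | add x y hx hy => simp only [map_add, hx, hy]
      | tmul x y =>
        induction y using TensorProduct.induction_on with
        | zero => simp
        | add a b ha hb => simp only [TensorProduct.tmul_add, map_add, ha, hb]
        | tmul a n => simp [eN, eM, ι, TensorProduct.smul_tmul']
    intro x y hxy
    exact eN.injective (h1 (by rw [← key, ← key, hxy]))
  · rw [← Submodule.baseChange_span, hspan, Submodule.baseChange_top]

/-- Over the ring of an étale neighbourhood, a flat module pure along a fibre becomes projective. -/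
theorem exists_projective_nhd_of_pureAlong {A B : Type u} [CommRing A] [CommRing B] [Algebra A B]
    [Algebra.FinitePresentation A B] (N : Type u) [AddCommGroup N] [Module B N] [Module A N] [IsScalarTower A B N]
    [Module.FinitePresentation B N] [Module.Flat A N] (p : Ideal A) [p.IsPrime]
    (hpure : FlatCA.IsPureAlong A B N p) :
    ∃ (A'' : Type u) (_ : CommRing A'') (_ : Algebra A A'') (p'' : Ideal A'') (_ : p''.IsPrime),
      Algebra.Etale A A'' ∧ p''.comap (algebraMap A A'') = p ∧ Module.Projective A'' (A'' ⊗[A] N) := by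
  classical
  have hflat : ∀ (q : Ideal B) [q.IsPrime], q.LiesOver p → FlatCA.FlatAt A q N := fun q _ _ =>
    FlatInjLib.flat_of_isLocalizedModule q.primeCompl (LocalizedModule.mkLinearMap q.primeCompl N)
  obtain ⟨R', S', _, _, _, _, _, _, _, _, p', _, ⟨hetR, hp'p, hbR⟩, hetS, hcov, hproj⟩ :=
    DevissExLib.exists_projective_cover_over N p hflat
  haveI := hetR
  haveI := hp'p
  haveI := hetS
  haveI : SMulCommClass B R' S' := ⟨fun b c z => by rw [Algebra.smul_def c, Algebra.smul_def c, mul_smul_comm]⟩
  let M₀ := S' ⊗[B] N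
  haveI : IsScalarTower R' S' M₀ := TensorProduct.isScalarTower_left
  haveI : Module.Projective R' M₀ := by
    haveI := hproj
    let E : RestrictScalars R' S' M₀ ≃ₗ[R'] M₀ :=
      { RestrictScalars.addEquiv R' S' M₀ with
        map_smul' := fun c z => by
          show RestrictScalars.addEquiv R' S' M₀ (c • z) = c • RestrictScalars.addEquiv R' S' M₀ z
          rw [RestrictScalars.addEquiv_map_smul, algebraMap_smul] }
    exact Module.Projective.of_equiv E
  -- the base change
  let B' := R' ⊗[A] B
  letI : Algebra B B' := Algebra.TensorProduct.rightAlgebra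
  haveI : IsScalarTower A B B' := IsScalarTower.of_algebraMap_eq fun a =>
    ((Algebra.TensorProduct.includeRight : B →ₐ[A] B').commutes a).symm
  haveI hpo : Algebra.IsPushout A R' B B' := inferInstanceAs (Algebra.IsPushout A R' B (R' ⊗[A] B))
  haveI : Algebra.IsPushout A B R' B' := hpo.symm
  haveI : Algebra.Etale B B' := RingHom.etale_algebraMap.1
    (RingHom.Etale.isStableUnderBaseChange A R' B B' (RingHom.etale_algebraMap.2 inferInstance))
  let ψ : B' →ₐ[R'] S' :=
    Algebra.TensorProduct.lift (Algebra.ofId R' S') (IsScalarTower.toAlgHom A B S') fun _ _ => Commute.all _ _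
  letI : Algebra B' S' := ψ.toRingHom.toAlgebra
  haveI : IsScalarTower R' B' S' := IsScalarTower.of_algebraMap_eq fun a => (ψ.commutes a).symm
  haveI : IsScalarTower B B' S' := IsScalarTower.of_algebraMap_eq fun a => by
    show algebraMap B S' a = ψ ((1 : R') ⊗ₜ[A] a)
    refine ((Algebra.TensorProduct.lift_tmul _ _ _ _ _).trans ?_).symm
    rw [map_one, one_mul]
    rfl
  haveI : Algebra.Etale B' S' := Algebra.Etale.of_restrictScalars B B' S'
  haveI : Etale (Spec.map (CommRingCat.ofHom (algebraMap B' S'))) := by
    rw [HasRingHomProperty.Spec_iff (P := @Etale)]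
    exact RingHom.etale_algebraMap.2 inferInstance
  let π := PrimeSpectrum.comap (algebraMap B' S')
  have hU : IsOpen (Set.range π) := (Spec.map (CommRingCat.ofHom (algebraMap B' S'))).isOpenMap.isOpen_range
  obtain ⟨I, hI⟩ := (PrimeSpectrum.isClosed_iff_zeroLocus_ideal _).1 hU.isClosed_compl
  haveI : SMulCommClass B R' B' := ⟨fun b c z => by rw [Algebra.smul_def c, Algebra.smul_def c, mul_smul_comm]⟩
  let N' := B' ⊗[B] N
  haveI : IsScalarTower R' B' N' := TensorProduct.isScalarTower_left
  let f' : N →ₗ[B] N' := TensorProduct.mk B B' N 1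
  have hf' : IsBaseChange B' f' := TensorProduct.isBaseChange B N B'
  haveI : Module.Flat R' N' :=
    Module.Flat.of_linearEquiv (Algebra.IsPushout.cancelBaseChange A R' B B' N)
  haveI : Algebra.FinitePresentation R' B' := inferInstanceAs (Algebra.FinitePresentation R' (R' ⊗[A] B))
  haveI : Module.FinitePresentation B' N' := inferInstance
  have hpR : FlatCA.IsPureAlong R' B' N' p' := GeomPureLib.isPureAlong_baseChange_of_quasiFinite hf' hpure
  have hflR : ∀ (q : Ideal B') [q.IsPrime], q.LiesOver p' → FlatCA.FlatAt R' q N' := fun q _ _ =>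
    FlatInjLib.flat_of_isLocalizedModule q.primeCompl (LocalizedModule.mkLinearMap q.primeCompl N')
  -- the points over `p'` are covered
  have hcov' : ∀ (Q : Ideal B') [Q.IsPrime], Q.LiesOver p' → ¬ (I : Set B') ⊆ Q := by
    intro Q _ hQ hIQ
    haveI := hQ
    haveI : (Q.comap (algebraMap B B')).LiesOver p := ⟨by
      rw [Ideal.under_def, Ideal.comap_comap, ← IsScalarTower.algebraMap_eq, IsScalarTower.algebraMap_eq A R' B',
        ← Ideal.comap_comap, show Q.comap (algebraMap R' B') = p' from hQ.over.symm]
      exact Ideal.over_def p' p⟩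
    obtain ⟨q', hq'I, hq'q, hq'p⟩ := hcov (Q.comap (algebraMap B B')) inferInstance
    haveI := hq'I
    haveI : (q'.comap (algebraMap B' S')).LiesOver p' := ⟨by
      rw [Ideal.under_def, Ideal.comap_comap, ← IsScalarTower.algebraMap_eq]
      exact hq'p.symm⟩
    have he : q'.comap (algebraMap B' S') = Q := DevissExLib.eq_of_comap_eq (C₁ := B) p p' hbR.2 _ _ inferInstance hQ (by
      rw [Ideal.comap_comap, ← IsScalarTower.algebraMap_eq]
      exact hq'q)
    exact (show (⟨Q, inferInstance⟩ : PrimeSpectrum B') ∈ (Set.range π)ᶜ from hI ▸ hIQ)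
      ⟨⟨q', hq'I⟩, PrimeSpectrum.ext he⟩
  -- an element of `I` regular on the fibres near `p'`
  letI : Algebra B' (p'.Fiber B') := Algebra.TensorProduct.rightAlgebra
  haveI : IsNoetherianRing (p'.Fiber B') := Algebra.FiniteType.isNoetherianRing p'.ResidueField _
  haveI : Module.Finite (p'.Fiber B') (FlatCA.fiberMod p' B' N') :=
    inferInstanceAs (Module.Finite (p'.Fiber B') ((p'.Fiber B') ⊗[B'] N'))
  let bad : Finset (Ideal B') :=
    (associatedPrimes.finite (p'.Fiber B') (FlatCA.fiberMod p' B' N')).toFinset.image fun P₀ =>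
      P₀.comap (FibAssLib.incl B' p')
  have hbad : ∀ a ∈ bad, a.IsPrime ∧ ¬ (I : Set B') ⊆ a := by
    intro a ha
    obtain ⟨P₀, hP₀, rfl⟩ := Finset.mem_image.1 ha
    haveI : P₀.IsPrime := IsAssociatedPrime.isPrime ((Set.Finite.mem_toFinset _).1 hP₀)
    exact ⟨inferInstance, hcov' _ (GeomPureLib.liesOver_comap_incl p' P₀)⟩
  obtain ⟨t, htI, ht⟩ : ∃ t ∈ I, ∀ a ∈ bad, t ∉ a := by
    by_contra hne
    push Not at hne
    obtain ⟨a, ha, hIa⟩ := (Ideal.subset_union_prime (s := bad) (f := id) ⊥ ⊥ fun a ha _ _ => (hbad a ha).1).1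
      fun x hx => by
        obtain ⟨a, ha, hxa⟩ := hne x hx
        exact Set.mem_biUnion ha hxa
    exact (hbad a ha).2 hIa
  have hfib : ∀ (s : Ideal R') [s.IsPrime], s ≤ p' →
      Function.Injective (((LinearMap.lsmul B' N' t).restrictScalars R').baseChange s.ResidueField) := by
    intro s _ hs
    letI : Algebra B' (s.Fiber B') := Algebra.TensorProduct.rightAlgebra
    haveI : Algebra.IsPushout R' s.ResidueField B' (s.Fiber B') :=
      inferInstanceAs (Algebra.IsPushout R' s.ResidueField B' (s.ResidueField ⊗[R'] B'))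
    haveI : IsNoetherianRing (s.Fiber B') := Algebra.FiniteType.isNoetherianRing s.ResidueField _
    refine DevissExLib.injective_baseChange_lsmul (F := s.Fiber B') t fun m hm => ?_
    by_contra h0
    have hmem : algebraMap B' (s.Fiber B') t ∈
        ⋃ P₀ ∈ associatedPrimes (s.Fiber B') ((s.Fiber B') ⊗[B'] N'), (P₀ : Set (s.Fiber B')) := by
      rw [biUnion_associatedPrimes_eq_zero_divisors]
      exact ⟨m, h0, hm⟩
    obtain ⟨P₀, hP₀, htP⟩ := Set.mem_iUnion₂.1 hmem
    haveI : P₀.IsPrime := IsAssociatedPrime.isPrime hP₀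
    haveI := GeomPureLib.liesOver_comap_incl s P₀
    have hass : FlatCA.fiberIdeal s (P₀.comap (FibAssLib.incl B' s)) ∈
        associatedPrimes (s.Fiber B') (FlatCA.fiberMod s B' N') := by
      rw [GeomPureLib.fiberIdeal_comap s P₀]
      exact hP₀
    obtain ⟨Q₁, hQ₁I, hQQ₁, hQ₁p⟩ := exists_specialization N' p' hpR s hs (P₀.comap (FibAssLib.incl B' s)) hass
    obtain ⟨Q₂, hQ₂I, hQQ₂, hQ₂p, hass₂⟩ :=
      Groth.Agent.S1221.result N' p' hflR s hs (P₀.comap (FibAssLib.incl B' s)) hass ⟨Q₁, hQ₁I, hQQ₁, hQ₁p⟩
    haveI := hQ₂I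
    exact ht Q₂ (Finset.mem_image.2 ⟨FlatCA.fiberIdeal p' Q₂, (Set.Finite.mem_toFinset _).2 hass₂,
      GeomPureLib.fiberIdeal_comap_eq p' Q₂ hQ₂p⟩) (hQQ₂ htP)
  obtain ⟨g, hgp, huniv⟩ := exists_univInj_away_of_flat (R := R') (B := B') (M := N') p' t hfib
  obtain ⟨p'', _, hp''p', hnR''⟩ := DevissExLib.exists_away_prime g p' hgp
  let A'' := Localization.Away g
  haveI : IsScalarTower A R' A'' := inferInstance
  haveI : Algebra.Etale R' A'' := Algebra.Etale.of_isLocalizationAway g
  haveI : Algebra.Etale A A'' := Algebra.Etale.comp A R' A''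
  refine ⟨A'', inferInstance, inferInstance, p'', inferInstance, inferInstance, ?_, ?_⟩
  · rw [IsScalarTower.algebraMap_eq A R' A'', ← Ideal.comap_comap, hp''p']
    exact (Ideal.over_def p' p).symm
  -- projectivity over the neighbourhood
  haveI : IsScalarTower B B' M₀ := IsScalarTower.of_algebraMap_smul fun c z => by
    rw [← algebraMap_smul S' (algebraMap B B' c) z, ← IsScalarTower.algebraMap_apply B B' S', algebraMap_smul]
  let ι : N' →ₗ[B'] M₀ := hf'.lift (TensorProduct.mk B S' N 1)
  have hι : IsBaseChange S' ι := IsBaseChange.of_comp hf' (by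
    rw [IsBaseChange.lift_comp]
    exact TensorProduct.isBaseChange B N S')
  have htU : ∀ (Q : Ideal B') [Q.IsPrime], t ∉ Q → ∃ c : Ideal S', c.IsPrime ∧ c.comap (algebraMap B' S') = Q := by
    intro Q _ htQ
    by_contra h
    have h1 : (⟨Q, inferInstance⟩ : PrimeSpectrum B') ∈ (Set.range π)ᶜ := by
      rintro ⟨c, hc⟩
      exact h ⟨c.asIdeal, c.isPrime, congrArg PrimeSpectrum.asIdeal hc⟩
    exact htQ ((show (⟨Q, inferInstance⟩ : PrimeSpectrum B') ∈ PrimeSpectrum.zeroLocus (I : Set B') from hI ▸ h1) htI)
  haveI : Module.Projective A'' (A'' ⊗[R'] N') := projective_away_of_regular N' M₀ ι hι t g htU huniv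
  let e₁ : R' ⊗[A] N ≃ₗ[R'] N' := (Algebra.IsPushout.cancelBaseChange A R' B B' N).symm
  exact Module.Projective.of_equiv
    ((TensorProduct.AlgebraTensorModule.congr (LinearEquiv.refl A'' A'') e₁.symm).trans
      (TensorProduct.AlgebraTensorModule.cancelBaseChange A R' A'' A'' N))

end PureCritLib
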