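import Groth.Prelude
import Groth.Agent.PureCritLib.Nhd
import Groth.Agent.ProjLib.Descent
import Mathlib

/-!
# Purity, projectivity and openness
-/

set_option autoImplicit false
set_option linter.all false

universe u

open AlgebraicGeometry CategoryTheory
open scoped TensorProduct

namespace PureCritLib

/-- A projective module over a factor of a product ring is projective over the product. -/
theorem projective_pi_factor {ι : Type*} [DecidableEq ι] (R : ι → Type u) [∀ i, CommRing (R i)] (i : ι)
    (M : Type u) [AddCommGroup M] [Module (R i) M] [Module (Π i, R i) M]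
    (hsmul : ∀ (c : Π i, R i) (m : M), c • m = c i • m) [Module.Projective (R i) M] :
    Module.Projective (Π i, R i) M := by
  classical
  obtain ⟨s, hs⟩ := (inferInstance : Module.Projective (R i) M).out
  let j : M →ₗ[Π i, R i] (M →₀ Π i, R i) :=
    { toFun := fun m => (s m).mapRange (Pi.single i) (Pi.single_zero i)
      map_add' := fun x y => by
        ext k l
        by_cases hl : l = i
        · subst hl; simp
        · simp [hl]
      map_smul' := fun c m => by
        ext k l
        rw [hsmul, map_smul]
        by_cases hl : l = i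
        · subst hl; simp
        · simp [hl] }
  refine Module.Projective.of_split j (Finsupp.linearCombination (Π i, R i) id) (LinearMap.ext fun m => ?_)
  show Finsupp.linearCombination (Π i, R i) id ((s m).mapRange (Pi.single i) (Pi.single_zero i)) = m
  conv_rhs => rw [← hs m]
  rw [Finsupp.linearCombination_apply, Finsupp.linearCombination_apply,
    Finsupp.sum_mapRange_index (fun k => by simp)]
  exact Finsupp.sum_congr fun k _ => by rw [hsmul, Pi.single_eq_same]

/-- Purity follows at every point of the image of a flat algebra over which the module becomes projective. -/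
theorem isUnivPureAlong_of_projective_baseChange {A B A' : Type u} [CommRing A] [CommRing B] [CommRing A']
    [Algebra A B] [Algebra.FiniteType A B] [Algebra A A'] [Module.Flat A A']
    (N : Type u) [AddCommGroup N] [Module B N] [Module A N] [IsScalarTower A B N] [Module.Finite B N]
    [Module.Projective A' (A' ⊗[A] N)] (p : Ideal A) [p.IsPrime] (p' : Ideal A') [p'.IsPrime] [p'.LiesOver p] :
    FlatCA.IsUnivPureAlong A B N p := by
  let B' := A' ⊗[A] B
  letI : Algebra B B' := Algebra.TensorProduct.rightAlgebra
  haveI : IsScalarTower A B B' := IsScalarTower.of_algebraMap_eq fun a =>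
    ((Algebra.TensorProduct.includeRight : B →ₐ[A] B').commutes a).symm
  haveI hpo : Algebra.IsPushout A A' B B' := inferInstanceAs (Algebra.IsPushout A A' B (A' ⊗[A] B))
  haveI : Algebra.IsPushout A B A' B' := hpo.symm
  haveI : SMulCommClass B A' B' := ⟨fun b c z => by rw [Algebra.smul_def c, Algebra.smul_def c, mul_smul_comm]⟩
  let N' := B' ⊗[B] N
  haveI : IsScalarTower A' B' N' := TensorProduct.isScalarTower_left
  haveI : Module.Projective A' N' :=
    Module.Projective.of_equiv (Algebra.IsPushout.cancelBaseChange A A' B B' N).symm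
  haveI : Module.Flat A (Localization.AtPrime p') := Module.Flat.trans A A' (Localization.AtPrime p')
  haveI : Algebra.FiniteType A' B' := inferInstanceAs (Algebra.FiniteType A' (A' ⊗[A] B))
  exact (GeomPureLib.isPureAlong_of_flat_baseChange (p := p) (p' := p') (TensorProduct.isBaseChange B N B')).2
    (isUnivPureAlong_of_projective N' p')

/-- A flat module pure along every fibre is projective. -/
theorem projective_of_isPure {A B : Type u} [CommRing A] [CommRing B] [Algebra A B]
    [Algebra.FinitePresentation A B] (N : Type u) [AddCommGroup N] [Module B N] [Module A N] [IsScalarTower A B N]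
    [Module.FinitePresentation B N] [Module.Flat A N] (h : FlatCA.IsPure A B N) : Module.Projective A N := by
  classical
  have hp := fun p : PrimeSpectrum A => exists_projective_nhd_of_pureAlong N p.asIdeal (h p.asIdeal)
  choose Ai cA aA pi pI het hpi hproj using hp
  have hUo : ∀ p, IsOpen (Set.range (PrimeSpectrum.comap (algebraMap A (Ai p)))) := fun p => by
    haveI := het p
    haveI : Etale (Spec.map (CommRingCat.ofHom (algebraMap A (Ai p)))) := by
      rw [HasRingHomProperty.Spec_iff (P := @Etale)]
      exact RingHom.etale_algebraMap.2 inferInstance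
    exact (Spec.map (CommRingCat.ofHom (algebraMap A (Ai p)))).isOpenMap.isOpen_range
  obtain ⟨s, hs⟩ := (isCompact_univ (X := PrimeSpectrum A)).elim_finite_subcover _ hUo fun w _ =>
    Set.mem_iUnion.2 ⟨w, ⟨pi w, pI w⟩, PrimeSpectrum.ext (hpi w)⟩
  let P := Π i : s, Ai i
  haveI : ∀ i : s, Module.Flat A (Ai i) := fun i => by
    haveI := het i
    infer_instance
  haveI : Module.Flat A P :=
    Module.Flat.of_linearEquiv (DFinsupp.linearEquivFunOnFintype (R := A) (M := fun i : s => Ai i)).symm
  haveI : Module.FaithfullyFlat A P := Module.FaithfullyFlat.of_comap_surjective fun w => by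
    obtain ⟨i, hi, c, hc⟩ := Set.mem_iUnion₂.1 (hs (Set.mem_univ w))
    refine ⟨PrimeSpectrum.comap (Pi.evalRingHom (fun i : s => Ai i) ⟨i, hi⟩) c, ?_⟩
    rw [← hc, ← PrimeSpectrum.comap_comp_apply]
    rfl
  letI modi : ∀ i : s, Module P (Ai i ⊗[A] N) := fun i =>
    Module.compHom _ (Pi.evalRingHom (fun i : s => Ai i) i)
  haveI : ∀ i : s, Module.Projective P (Ai i ⊗[A] N) := fun i => by
    haveI := hproj i
    exact projective_pi_factor (fun i : s => Ai i) i (Ai i ⊗[A] N) fun _ _ => rfl
  haveI : Module.Projective P (∀ i : s, Ai i ⊗[A] N) :=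
    Module.Projective.of_equiv (DFinsupp.linearEquivFunOnFintype (R := P) (M := fun i : s => Ai i ⊗[A] N))
  let E : (P ⊗[A] N) ≃ₗ[P] ∀ i : s, Ai i ⊗[A] N :=
    { (TensorProduct.piLeft (R := A) (M := fun i : s => Ai i) (N := N)).toAddEquiv with
      map_smul' := fun c z => by
        show TensorProduct.piLeft (R := A) (M := fun i : s => Ai i) (N := N) (c • z) =
          c • TensorProduct.piLeft (R := A) (M := fun i : s => Ai i) (N := N) z
        induction z using TensorProduct.induction_on with
        | zero => simp
        | tmul a m => rw [TensorProduct.smul_tmul']; funext i; simp [TensorProduct.smul_tmul']; rfl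
        | add a b ha hb => simp only [smul_add, map_add, ha, hb] }
  haveI : Module.Projective P (P ⊗[A] N) := Module.Projective.of_equiv E.symm
  exact ProjLib.projective_of_faithfullyFlat A N P

/-- The points of purity form an open set. -/
theorem isOpen_isPureAlong {A B : Type u} [CommRing A] [CommRing B] [Algebra A B]
    [Algebra.FinitePresentation A B] (N : Type u) [AddCommGroup N] [Module B N] [Module A N] [IsScalarTower A B N]
    [Module.FinitePresentation B N] [Module.Flat A N] :
    IsOpen {p : PrimeSpectrum A | FlatCA.IsPureAlong A B N p.asIdeal} := by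
  refine isOpen_iff_forall_mem_open.2 fun p hp => ?_
  obtain ⟨A', _, _, p', _, hetA, hp', hproj⟩ := exists_projective_nhd_of_pureAlong N p.asIdeal hp
  haveI := hetA
  haveI := hproj
  haveI : Etale (Spec.map (CommRingCat.ofHom (algebraMap A A'))) := by
    rw [HasRingHomProperty.Spec_iff (P := @Etale)]
    exact RingHom.etale_algebraMap.2 inferInstance
  refine ⟨Set.range (PrimeSpectrum.comap (algebraMap A A')), ?_,
    (Spec.map (CommRingCat.ofHom (algebraMap A A'))).isOpenMap.isOpen_range,
    ⟨⟨p', inferInstance⟩, PrimeSpectrum.ext hp'⟩⟩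
  rintro _ ⟨c, rfl⟩
  haveI : c.asIdeal.LiesOver (PrimeSpectrum.comap (algebraMap A A') c).asIdeal := ⟨rfl⟩
  intro A₁ B₁ N₁ _ _ _ _ _ _ _ _ _ _ _ _ _ _ f t' t _ _ P _ _
  exact isUnivPureAlong_of_projective_baseChange N (PrimeSpectrum.comap (algebraMap A A') c).asIdeal c.asIdeal
    A₁ B₁ N₁ f t' t P

end PureCritLib
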