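import Groth.Prelude
import Groth.Agent.PureCritLib.Cover
import Groth.Agent.DevissExLib.LocalFT
import Mathlib

/-!
# The relative assassin over the local ring of an étale neighbourhood
-/

set_option autoImplicit false
set_option linter.all false
set_option backward.isDefEq.respectTransparency false

universe u

open scoped TensorProduct

namespace PureCritLib

/-- An étale cover of the fibre meets the relative assassin of a pure module over the local ring. -/
theorem exists_hit {A B R' L BR BL C : Type u} [CommRing A] [CommRing B] [CommRing R'] [CommRing L] [IsLocalRing L]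
    [CommRing BR] [CommRing BL] [CommRing C] [Algebra A B] [Algebra.FiniteType A B] [Algebra A R'] [Algebra R' L]
    [Algebra A L] [IsScalarTower A R' L] [Algebra R' BR] [Algebra B BR] [Algebra A BR] [IsScalarTower A R' BR]
    [IsScalarTower A B BR] [Algebra.IsPushout A R' B BR] [Algebra L BL] [Algebra BR BL] [Algebra B BL] [Algebra A BL]
    [Algebra R' BL] [IsScalarTower R' L BL] [IsScalarTower R' BR BL] [IsScalarTower B BR BL] [IsScalarTower A R' BL]
    [IsScalarTower A L BL] [IsScalarTower A B BL] [hpoL : Algebra.IsPushout A L B BL] [Algebra.FiniteType R' BR]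
    [Algebra BL C] [Algebra L C] [IsScalarTower L BL C] [Algebra B C] [IsScalarTower B BL C] [Module.Flat BL C]
    (p : Ideal A) [p.IsPrime] (p' : Ideal R') [p'.IsPrime] [IsLocalization.AtPrime L p']
    [hm : (IsLocalRing.maximalIdeal L).LiesOver p'] [(IsLocalRing.maximalIdeal L).LiesOver p]
    (hresL : Function.Surjective (Ideal.ResidueField.mapₐ p (IsLocalRing.maximalIdeal L) (Algebra.ofId A L)
      (Ideal.over_def (IsLocalRing.maximalIdeal L) p)))
    {N NR NL : Type u} [AddCommGroup N] [Module B N] [Module.Finite B N] [AddCommGroup NR] [Module BR NR]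
    [Module R' NR] [IsScalarTower R' BR NR] [Module B NR] [IsScalarTower B BR NR]
    [AddCommGroup NL] [Module BL NL] [Module B NL] [IsScalarTower B BL NL] [Module BR NL] [IsScalarTower BR BL NL]
    [IsScalarTower B BR NL]
    (fR : N →ₗ[B] NR) (hfR : IsBaseChange BR fR) (fL : N →ₗ[B] NL) (hfL : IsBaseChange BL fL)
    (hpR : FlatCA.IsPureAlong R' BR NR p')
    (hcov : ∀ (q : Ideal B) [q.IsPrime], q.LiesOver p → ∃ (x : Ideal C) (_ : x.IsPrime),
      x.comap (algebraMap B C) = q ∧ x.LiesOver (IsLocalRing.maximalIdeal L))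
    (t : Ideal L) [t.IsPrime] (htm : t ≤ IsLocalRing.maximalIdeal L) (Q : Ideal BL) [Q.IsPrime] [hQt : Q.LiesOver t]
    (hass : FlatCA.fiberIdeal t Q ∈ associatedPrimes (t.Fiber BL) (FlatCA.fiberMod t BL NL)) :
    ∃ c : Ideal C, c.IsPrime ∧ c.comap (algebraMap BL C) = Q := by
  let m := IsLocalRing.maximalIdeal L
  haveI : Module.Finite BR NR := Module.Finite.equiv hfR.equiv
  -- the corresponding point of the neighbourhood
  haveI : IsScalarTower A BR BL := IsScalarTower.of_algebraMap_eq (R := A) (S := BR) (A := BL) fun a => by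
    rw [IsScalarTower.algebraMap_apply A R' BR, ← IsScalarTower.algebraMap_apply R' BR BL,
      ← IsScalarTower.algebraMap_apply A R' BL]
  haveI hpRL : Algebra.IsPushout R' L BR BL :=
    (Algebra.IsPushout.comp_iff (R := A) (S := R') (R' := B) (S' := BR) (T := L) (T' := BL)).1 hpoL
  haveI : Algebra.IsPushout R' BR L BL := hpRL.symm
  haveI hloc : IsLocalization (Algebra.algebraMapSubmonoid BR p'.primeCompl) BL :=
    (Algebra.isLocalization_iff_isPushout p'.primeCompl L).2 hpRL.symm
  let gL : NR →ₗ[BR] NL := hfR.lift fL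
  have hgL : IsBaseChange BL gL := IsBaseChange.of_comp hfR (by
    rw [IsBaseChange.lift_comp]
    exact hfL)
  let t₀ := t.comap (algebraMap R' L)
  haveI : t.LiesOver t₀ := ⟨rfl⟩
  let Q₀ := Q.comap (algebraMap BR BL)
  haveI : Q₀.LiesOver t₀ := ⟨by
    show t.comap (algebraMap R' L) = (Q.comap (algebraMap BR BL)).comap (algebraMap R' BR)
    rw [Ideal.over_def Q t, Ideal.under_def, Ideal.comap_comap, Ideal.comap_comap, ← IsScalarTower.algebraMap_eq,
      ← IsScalarTower.algebraMap_eq]⟩
  have hass₀ := (GeomPureLib.assFibre_correspond t₀ t hgL).2 Q inferInstance hQt hass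
  have ht₀ : t₀ ≤ p' := (Ideal.comap_mono htm).trans hm.over.ge
  obtain ⟨Q₁, hQ₁I, hQQ₁, hQ₁p⟩ := PureCritLib.exists_specialization NR p' hpR t₀ ht₀ Q₀ hass₀
  haveI := hQ₁I
  haveI := hQ₁p
  have hd : Disjoint (Algebra.algebraMapSubmonoid BR p'.primeCompl : Set BR) (Q₁ : Set BR) :=
    Set.disjoint_left.2 (by
      rintro _ ⟨c, hc, rfl⟩ hc'
      exact hc ((Ideal.over_def Q₁ p').ge hc'))
  let Q₂ := Q₁.map (algebraMap BR BL)
  haveI : Q₂.IsPrime := IsLocalization.isPrime_of_isPrime_disjoint _ BL _ inferInstance hd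
  have hQ₂ : Q₂.comap (algebraMap BR BL) = Q₁ := IsLocalization.comap_map_of_isPrime_disjoint _ BL inferInstance hd
  have hQQ₂ : Q ≤ Q₂ := by
    rw [← IsLocalization.map_comap (Algebra.algebraMapSubmonoid BR p'.primeCompl) BL Q]
    exact Ideal.map_mono hQQ₁
  have hQ₂m : Q₂.LiesOver m := ⟨by
    refine ((IsLocalRing.maximalIdeal.isMaximal L).eq_of_le (Ideal.IsPrime.comap (algebraMap L BL)).ne_top ?_)
    rw [← IsLocalization.AtPrime.map_eq_maximalIdeal p' L, Ideal.map_le_iff_le_comap, Ideal.comap_comap,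
      ← IsScalarTower.algebraMap_eq, IsScalarTower.algebraMap_eq R' BR BL, ← Ideal.comap_comap, hQ₂]
    exact (Ideal.over_def Q₁ p').le⟩
  haveI := hQ₂m
  let q := Q₂.comap (algebraMap B BL)
  haveI : q.LiesOver p := ⟨by
    show p = (Q₂.comap (algebraMap B BL)).comap (algebraMap A B)
    rw [Ideal.comap_comap, ← IsScalarTower.algebraMap_eq, IsScalarTower.algebraMap_eq A L BL, ← Ideal.comap_comap]
    exact (Ideal.over_def m p).trans (congrArg (Ideal.comap _) (Ideal.over_def Q₂ m))⟩
  obtain ⟨x, hxI, hxq, hxm⟩ := hcov q inferInstance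
  haveI := hxI
  haveI := hxm
  haveI : (x.comap (algebraMap BL C)).LiesOver m := ⟨by
    rw [Ideal.under_def, Ideal.comap_comap, ← IsScalarTower.algebraMap_eq]
    exact Ideal.over_def x m⟩
  have hxQ₂ : x.comap (algebraMap BL C) = Q₂ :=
    DevissExLib.eq_of_comap_eq (C₁ := B) p m hresL _ _ inferInstance hQ₂m (by
      rw [Ideal.comap_comap, ← IsScalarTower.algebraMap_eq]
      exact hxq)
  haveI : x.LiesOver Q₂ := ⟨hxQ₂.symm⟩
  obtain ⟨x₁, -, hx₁I, hx₁⟩ := Ideal.exists_ideal_le_liesOver_of_le (p := Q) (q := Q₂) x hQQ₂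
  exact ⟨x₁, hx₁I, hx₁.over.symm⟩


/-- Universal purity from a free étale cover over the local ring of a neighbourhood. -/
theorem isUnivPureAlong_of_local_cover {A B R' L BR BL C : Type u} [CommRing A] [CommRing B] [CommRing R'] [CommRing L] [IsLocalRing L]
    [CommRing BR] [CommRing BL] [CommRing C] [Algebra A B] [Algebra.FiniteType A B] [Algebra A R'] [Algebra R' L]
    [Algebra A L] [IsScalarTower A R' L] [Algebra R' BR] [Algebra B BR] [Algebra A BR] [IsScalarTower A R' BR]
    [IsScalarTower A B BR] [Algebra.IsPushout A R' B BR] [Algebra L BL] [Algebra BR BL] [Algebra B BL] [Algebra A BL]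
    [Algebra R' BL] [IsScalarTower R' L BL] [IsScalarTower R' BR BL] [IsScalarTower B BR BL] [IsScalarTower A R' BL]
    [IsScalarTower A L BL] [IsScalarTower A B BL] [hpoL : Algebra.IsPushout A L B BL] [Algebra.FiniteType R' BR]
    [Algebra BL C] [Algebra L C] [IsScalarTower L BL C] [Algebra B C] [IsScalarTower B BL C] [Module.Flat BL C]
    (p : Ideal A) [p.IsPrime] (p' : Ideal R') [p'.IsPrime] [IsLocalization.AtPrime L p']
    [hm : (IsLocalRing.maximalIdeal L).LiesOver p'] [(IsLocalRing.maximalIdeal L).LiesOver p]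
    (hresL : Function.Surjective (Ideal.ResidueField.mapₐ p (IsLocalRing.maximalIdeal L) (Algebra.ofId A L)
      (Ideal.over_def (IsLocalRing.maximalIdeal L) p)))
    {N NR NL : Type u} [AddCommGroup N] [Module B N] [Module.Finite B N] [AddCommGroup NR] [Module BR NR]
    [Module R' NR] [IsScalarTower R' BR NR] [Module B NR] [IsScalarTower B BR NR]
    [AddCommGroup NL] [Module BL NL] [Module B NL] [IsScalarTower B BL NL] [Module BR NL] [IsScalarTower BR BL NL]
    [IsScalarTower B BR NL]
    [Module A N] [IsScalarTower A B N] [Module L NL] [IsScalarTower L BL NL] [Algebra.FiniteType L BL] [Algebra.FiniteType L C]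
    [Module.Flat A (Localization.AtPrime (IsLocalRing.maximalIdeal L))]
    {M : Type u} [AddCommGroup M] [Module C M] [Module BL M] [IsScalarTower BL C M] [Module L M] [IsScalarTower L C M]
    [Module.Projective L M] (gC : NL →ₗ[BL] M) (hgC : IsBaseChange C gC)
    (fR : N →ₗ[B] NR) (hfR : IsBaseChange BR fR) (fL : N →ₗ[B] NL) (hfL : IsBaseChange BL fL)
    (hpR : FlatCA.IsPureAlong R' BR NR p')
    (hcov : ∀ (q : Ideal B) [q.IsPrime], q.LiesOver p → ∃ (x : Ideal C) (_ : x.IsPrime),
      x.comap (algebraMap B C) = q ∧ x.LiesOver (IsLocalRing.maximalIdeal L))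
    : FlatCA.IsUnivPureAlong A B N p := by
  let m := IsLocalRing.maximalIdeal L
  haveI : Algebra.IsPushout A B L BL := hpoL.symm
  haveI : Module.Finite BL NL := Module.Finite.equiv hfL.equiv
  refine (GeomPureLib.isPureAlong_of_flat_baseChange (p := p) (p' := m) hfL).2 ?_
  refine isUnivPureAlong_of_cover NL M gC hgC m fun t _ htm Q _ hQt hass => ?_
  haveI := hQt
  exact exists_hit p p' hresL fR hfR fL hfL hpR hcov t htm Q hass

end PureCritLib
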